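import Groth.Agent.Lib.Helper36.G4.Defs

/-! Part 0 of the case analysis for the genus one classification, `n = 4` (generated, helper36). -/

set_option autoImplicit false
set_option linter.unusedVariables false
open Finset
open Models Models.NumericalType
open Groth.Agent.Lib.Helper36

namespace Groth.Agent.Lib.Helper36.G4

theorem part0 (T : Models.NumericalType 4) (b : Fin 4 → Fin 4 → ℤ) (C : NT.AffCtx T b)
    (L01 : 0 ≤ b 0 1) (L02 : 0 ≤ b 0 2) (L03 : 0 ≤ b 0 3) (L10 : 0 ≤ b 1 0) (L12 : 0 ≤ b 1 2) (L13 : 0 ≤ b 1 3) (L20 : 0 ≤ b 2 0) (L21 : 0 ≤ b 2 1) (L23 : 0 ≤ b 2 3) (L30 : 0 ≤ b 3 0) (L31 : 0 ≤ b 3 1) (L32 : 0 ≤ b 3 2)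
    (U01 : b 0 1 ≤ 0) (U02 : b 0 2 ≤ 0) (U03 : b 0 3 ≤ 0) (U10 : b 1 0 ≤ 0) (U12 : b 1 2 ≤ 3) (U13 : b 1 3 ≤ 3) (U20 : b 2 0 ≤ 0) (U21 : b 2 1 ≤ 3) (U23 : b 2 3 ≤ 3) (U30 : b 3 0 ≤ 0) (U31 : b 3 1 ≤ 3) (U32 : b 3 2 ≤ 3) : Goal T := by
  unfold Goal
  rcases le_or_gt (b 1 2) 0 with hc | hc
  · have U12 : b 1 2 ≤ 0 := hc
    have U21 : b 2 1 ≤ 0 := C.le_zero_symm (by decide) hc
    rcases le_or_gt (b 1 3) 0 with hc | hc
    · have U13 : b 1 3 ≤ 0 := hc
      have U31 : b 3 1 ≤ 0 := C.le_zero_symm (by decide) hc
      rcases le_or_gt (b 2 3) 0 with hc | hc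
      · have U23 : b 2 3 ≤ 0 := hc
        have U32 : b 3 2 ≤ 0 := C.le_zero_symm (by decide) hc
        exact (C.too_small ![![0, 0, 0, 0], ![0, 0, 0, 0], ![0, 0, 0, 0], ![0, 0, 0, 0]] (fun s t hst => by fin_cases s <;> fin_cases t <;> first | exact absurd rfl hst | assumption)
          ![1, 1, 1, 1] (by decide) (by decide) (by decide)).elim
      · have L23 : 1 ≤ b 2 3 := by omega
        have L32 : 1 ≤ b 3 2 := C.pos_symm (by decide) (by omega)
        rcases le_or_gt (b 2 3) 1 with hc | hc
        · have U23 : b 2 3 ≤ 1 := hc
          exact (C.too_small ![![0, 0, 0, 0], ![0, 0, 0, 0], ![0, 0, 0, 1], ![0, 0, 3, 0]] (fun s t hst => by fin_cases s <;> fin_cases t <;> first | exact absurd rfl hst | assumption)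
            ![1, 1, 1, 2] (by decide) (by decide) (by decide)).elim
        · have L23 : 2 ≤ b 2 3 := by omega
          rcases le_or_gt (b 2 3) 2 with hc | hc
          · have U23 : b 2 3 ≤ 2 := hc
            rcases le_or_gt (b 3 2) 1 with hc | hc
            · have U32 : b 3 2 ≤ 1 := hc
              exact (C.too_small ![![0, 0, 0, 0], ![0, 0, 0, 0], ![0, 0, 0, 2], ![0, 0, 1, 0]] (fun s t hst => by fin_cases s <;> fin_cases t <;> first | exact absurd rfl hst | assumption)
                ![1, 1, 1, 1] (by decide) (by decide) (by decide)).elim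
            · have L32 : 2 ≤ b 3 2 := by omega
              exact (C.too_big ![![0, 0, 0, 0], ![0, 0, 0, 0], ![0, 0, 0, 2], ![0, 0, 2, 0]] (fun s t hst => by fin_cases s <;> fin_cases t <;> first | exact absurd rfl hst | assumption)
                ![0, 0, 1, 1] (by decide) (by decide) (by decide) (by decide)).elim
          · have L23 : 3 ≤ b 2 3 := by omega
            rcases le_or_gt (b 3 2) 1 with hc | hc
            · have U32 : b 3 2 ≤ 1 := hc
              exact (C.too_small ![![0, 0, 0, 0], ![0, 0, 0, 0], ![0, 0, 0, 3], ![0, 0, 1, 0]] (fun s t hst => by fin_cases s <;> fin_cases t <;> first | exact absurd rfl hst | assumption)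
                ![1, 1, 2, 1] (by decide) (by decide) (by decide)).elim
            · have L32 : 2 ≤ b 3 2 := by omega
              exact (C.too_big ![![0, 0, 0, 0], ![0, 0, 0, 0], ![0, 0, 0, 3], ![0, 0, 2, 0]] (fun s t hst => by fin_cases s <;> fin_cases t <;> first | exact absurd rfl hst | assumption)
                ![0, 0, 1, 1] (by decide) (by decide) (by decide) (by decide)).elim
    · have L13 : 1 ≤ b 1 3 := by omega
      have L31 : 1 ≤ b 3 1 := C.pos_symm (by decide) (by omega)
      rcases le_or_gt (b 1 3) 1 with hc | hc
      · have U13 : b 1 3 ≤ 1 := hc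
        rcases le_or_gt (b 2 3) 0 with hc | hc
        · have U23 : b 2 3 ≤ 0 := hc
          have U32 : b 3 2 ≤ 0 := C.le_zero_symm (by decide) hc
          exact (C.too_small ![![0, 0, 0, 0], ![0, 0, 0, 1], ![0, 0, 0, 0], ![0, 3, 0, 0]] (fun s t hst => by fin_cases s <;> fin_cases t <;> first | exact absurd rfl hst | assumption)
            ![1, 1, 1, 2] (by decide) (by decide) (by decide)).elim
        · have L23 : 1 ≤ b 2 3 := by omega
          have L32 : 1 ≤ b 3 2 := C.pos_symm (by decide) (by omega)
          rcases le_or_gt (b 2 3) 1 with hc | hc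
          · have U23 : b 2 3 ≤ 1 := hc
            rcases le_or_gt (b 3 1) 1 with hc | hc
            · have U31 : b 3 1 ≤ 1 := hc
              rcases le_or_gt (b 3 2) 1 with hc | hc
              · have U32 : b 3 2 ≤ 1 := hc
                exact (C.too_small ![![0, 0, 0, 0], ![0, 0, 0, 1], ![0, 0, 0, 1], ![0, 1, 1, 0]] (fun s t hst => by fin_cases s <;> fin_cases t <;> first | exact absurd rfl hst | assumption)
                  ![1, 1, 1, 1] (by decide) (by decide) (by decide)).elim
              · have L32 : 2 ≤ b 3 2 := by omega
                rcases le_or_gt (b 3 2) 2 with hc | hc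
                · have U32 : b 3 2 ≤ 2 := hc
                  exact (C.too_small ![![0, 0, 0, 0], ![0, 0, 0, 1], ![0, 0, 0, 1], ![0, 1, 2, 0]] (fun s t hst => by fin_cases s <;> fin_cases t <;> first | exact absurd rfl hst | assumption)
                    ![1, 1, 1, 2] (by decide) (by decide) (by decide)).elim
                · have L32 : 3 ≤ b 3 2 := by omega
                  exact (C.too_big ![![0, 0, 0, 0], ![0, 0, 0, 1], ![0, 0, 0, 1], ![0, 1, 3, 0]] (fun s t hst => by fin_cases s <;> fin_cases t <;> first | exact absurd rfl hst | assumption)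
                    ![0, 1, 1, 2] (by decide) (by decide) (by decide) (by decide)).elim
            · have L31 : 2 ≤ b 3 1 := by omega
              rcases le_or_gt (b 3 1) 2 with hc | hc
              · have U31 : b 3 1 ≤ 2 := hc
                rcases le_or_gt (b 3 2) 1 with hc | hc
                · have U32 : b 3 2 ≤ 1 := hc
                  exact (C.too_small ![![0, 0, 0, 0], ![0, 0, 0, 1], ![0, 0, 0, 1], ![0, 2, 1, 0]] (fun s t hst => by fin_cases s <;> fin_cases t <;> first | exact absurd rfl hst | assumption)
                    ![1, 1, 1, 2] (by decide) (by decide) (by decide)).elim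
                · have L32 : 2 ≤ b 3 2 := by omega
                  exact (C.too_big ![![0, 0, 0, 0], ![0, 0, 0, 1], ![0, 0, 0, 1], ![0, 2, 2, 0]] (fun s t hst => by fin_cases s <;> fin_cases t <;> first | exact absurd rfl hst | assumption)
                    ![0, 1, 1, 2] (by decide) (by decide) (by decide) (by decide)).elim
              · have L31 : 3 ≤ b 3 1 := by omega
                exact (C.too_big ![![0, 0, 0, 0], ![0, 0, 0, 1], ![0, 0, 0, 1], ![0, 3, 1, 0]] (fun s t hst => by fin_cases s <;> fin_cases t <;> first | exact absurd rfl hst | assumption)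
                  ![0, 1, 1, 2] (by decide) (by decide) (by decide) (by decide)).elim
          · have L23 : 2 ≤ b 2 3 := by omega
            rcases le_or_gt (b 2 3) 2 with hc | hc
            · have U23 : b 2 3 ≤ 2 := hc
              rcases le_or_gt (b 3 1) 1 with hc | hc
              · have U31 : b 3 1 ≤ 1 := hc
                rcases le_or_gt (b 3 2) 1 with hc | hc
                · have U32 : b 3 2 ≤ 1 := hc
                  exact (C.too_small ![![0, 0, 0, 0], ![0, 0, 0, 1], ![0, 0, 0, 2], ![0, 1, 1, 0]] (fun s t hst => by fin_cases s <;> fin_cases t <;> first | exact absurd rfl hst | assumption)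
                    ![1, 1, 2, 2] (by decide) (by decide) (by decide)).elim
                · have L32 : 2 ≤ b 3 2 := by omega
                  exact (C.too_big ![![0, 0, 0, 0], ![0, 0, 0, 1], ![0, 0, 0, 2], ![0, 1, 2, 0]] (fun s t hst => by fin_cases s <;> fin_cases t <;> first | exact absurd rfl hst | assumption)
                    ![0, 1, 2, 2] (by decide) (by decide) (by decide) (by decide)).elim
              · have L31 : 2 ≤ b 3 1 := by omega
                exact (C.too_big ![![0, 0, 0, 0], ![0, 0, 0, 1], ![0, 0, 0, 2], ![0, 2, 1, 0]] (fun s t hst => by fin_cases s <;> fin_cases t <;> first | exact absurd rfl hst | assumption)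
                  ![0, 1, 2, 2] (by decide) (by decide) (by decide) (by decide)).elim
            · have L23 : 3 ≤ b 2 3 := by omega
              exact (C.too_big ![![0, 0, 0, 0], ![0, 0, 0, 1], ![0, 0, 0, 3], ![0, 1, 1, 0]] (fun s t hst => by fin_cases s <;> fin_cases t <;> first | exact absurd rfl hst | assumption)
                ![0, 1, 3, 2] (by decide) (by decide) (by decide) (by decide)).elim
      · have L13 : 2 ≤ b 1 3 := by omega
        rcases le_or_gt (b 1 3) 2 with hc | hc
        · have U13 : b 1 3 ≤ 2 := hc
          rcases le_or_gt (b 2 3) 0 with hc | hc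
          · have U23 : b 2 3 ≤ 0 := hc
            have U32 : b 3 2 ≤ 0 := C.le_zero_symm (by decide) hc
            rcases le_or_gt (b 3 1) 1 with hc | hc
            · have U31 : b 3 1 ≤ 1 := hc
              exact (C.too_small ![![0, 0, 0, 0], ![0, 0, 0, 2], ![0, 0, 0, 0], ![0, 1, 0, 0]] (fun s t hst => by fin_cases s <;> fin_cases t <;> first | exact absurd rfl hst | assumption)
                ![1, 1, 1, 1] (by decide) (by decide) (by decide)).elim
            · have L31 : 2 ≤ b 3 1 := by omega
              exact (C.too_big ![![0, 0, 0, 0], ![0, 0, 0, 2], ![0, 0, 0, 0], ![0, 2, 0, 0]] (fun s t hst => by fin_cases s <;> fin_cases t <;> first | exact absurd rfl hst | assumption)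
                ![0, 1, 0, 1] (by decide) (by decide) (by decide) (by decide)).elim
          · have L23 : 1 ≤ b 2 3 := by omega
            have L32 : 1 ≤ b 3 2 := C.pos_symm (by decide) (by omega)
            rcases le_or_gt (b 2 3) 1 with hc | hc
            · have U23 : b 2 3 ≤ 1 := hc
              rcases le_or_gt (b 3 1) 1 with hc | hc
              · have U31 : b 3 1 ≤ 1 := hc
                rcases le_or_gt (b 3 2) 1 with hc | hc
                · have U32 : b 3 2 ≤ 1 := hc
                  exact (C.too_small ![![0, 0, 0, 0], ![0, 0, 0, 2], ![0, 0, 0, 1], ![0, 1, 1, 0]] (fun s t hst => by fin_cases s <;> fin_cases t <;> first | exact absurd rfl hst | assumption)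
                    ![1, 2, 1, 2] (by decide) (by decide) (by decide)).elim
                · have L32 : 2 ≤ b 3 2 := by omega
                  exact (C.too_big ![![0, 0, 0, 0], ![0, 0, 0, 2], ![0, 0, 0, 1], ![0, 1, 2, 0]] (fun s t hst => by fin_cases s <;> fin_cases t <;> first | exact absurd rfl hst | assumption)
                    ![0, 2, 1, 2] (by decide) (by decide) (by decide) (by decide)).elim
              · have L31 : 2 ≤ b 3 1 := by omega
                exact (C.too_big ![![0, 0, 0, 0], ![0, 0, 0, 2], ![0, 0, 0, 1], ![0, 2, 1, 0]] (fun s t hst => by fin_cases s <;> fin_cases t <;> first | exact absurd rfl hst | assumption)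
                  ![0, 2, 1, 2] (by decide) (by decide) (by decide) (by decide)).elim
            · have L23 : 2 ≤ b 2 3 := by omega
              exact (C.too_big ![![0, 0, 0, 0], ![0, 0, 0, 2], ![0, 0, 0, 2], ![0, 1, 1, 0]] (fun s t hst => by fin_cases s <;> fin_cases t <;> first | exact absurd rfl hst | assumption)
                ![0, 1, 1, 1] (by decide) (by decide) (by decide) (by decide)).elim
        · have L13 : 3 ≤ b 1 3 := by omega
          rcases le_or_gt (b 2 3) 0 with hc | hc
          · have U23 : b 2 3 ≤ 0 := hc
            have U32 : b 3 2 ≤ 0 := C.le_zero_symm (by decide) hc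
            rcases le_or_gt (b 3 1) 1 with hc | hc
            · have U31 : b 3 1 ≤ 1 := hc
              exact (C.too_small ![![0, 0, 0, 0], ![0, 0, 0, 3], ![0, 0, 0, 0], ![0, 1, 0, 0]] (fun s t hst => by fin_cases s <;> fin_cases t <;> first | exact absurd rfl hst | assumption)
                ![1, 2, 1, 1] (by decide) (by decide) (by decide)).elim
            · have L31 : 2 ≤ b 3 1 := by omega
              exact (C.too_big ![![0, 0, 0, 0], ![0, 0, 0, 3], ![0, 0, 0, 0], ![0, 2, 0, 0]] (fun s t hst => by fin_cases s <;> fin_cases t <;> first | exact absurd rfl hst | assumption)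
                ![0, 1, 0, 1] (by decide) (by decide) (by decide) (by decide)).elim
          · have L23 : 1 ≤ b 2 3 := by omega
            have L32 : 1 ≤ b 3 2 := C.pos_symm (by decide) (by omega)
            exact (C.too_big ![![0, 0, 0, 0], ![0, 0, 0, 3], ![0, 0, 0, 1], ![0, 1, 1, 0]] (fun s t hst => by fin_cases s <;> fin_cases t <;> first | exact absurd rfl hst | assumption)
              ![0, 3, 1, 2] (by decide) (by decide) (by decide) (by decide)).elim
  · have L12 : 1 ≤ b 1 2 := by omega
    have L21 : 1 ≤ b 2 1 := C.pos_symm (by decide) (by omega)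
    rcases le_or_gt (b 1 2) 1 with hc | hc
    · have U12 : b 1 2 ≤ 1 := hc
      rcases le_or_gt (b 1 3) 0 with hc | hc
      · have U13 : b 1 3 ≤ 0 := hc
        have U31 : b 3 1 ≤ 0 := C.le_zero_symm (by decide) hc
        rcases le_or_gt (b 2 1) 1 with hc | hc
        · have U21 : b 2 1 ≤ 1 := hc
          rcases le_or_gt (b 2 3) 0 with hc | hc
          · have U23 : b 2 3 ≤ 0 := hc
            have U32 : b 3 2 ≤ 0 := C.le_zero_symm (by decide) hc
            exact (C.too_small ![![0, 0, 0, 0], ![0, 0, 1, 0], ![0, 1, 0, 0], ![0, 0, 0, 0]] (fun s t hst => by fin_cases s <;> fin_cases t <;> first | exact absurd rfl hst | assumption)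
              ![1, 1, 1, 1] (by decide) (by decide) (by decide)).elim
          · have L23 : 1 ≤ b 2 3 := by omega
            have L32 : 1 ≤ b 3 2 := C.pos_symm (by decide) (by omega)
            rcases le_or_gt (b 2 3) 1 with hc | hc
            · have U23 : b 2 3 ≤ 1 := hc
              rcases le_or_gt (b 3 2) 1 with hc | hc
              · have U32 : b 3 2 ≤ 1 := hc
                exact (C.too_small ![![0, 0, 0, 0], ![0, 0, 1, 0], ![0, 1, 0, 1], ![0, 0, 1, 0]] (fun s t hst => by fin_cases s <;> fin_cases t <;> first | exact absurd rfl hst | assumption)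
                  ![1, 1, 1, 1] (by decide) (by decide) (by decide)).elim
              · have L32 : 2 ≤ b 3 2 := by omega
                rcases le_or_gt (b 3 2) 2 with hc | hc
                · have U32 : b 3 2 ≤ 2 := hc
                  exact (C.too_small ![![0, 0, 0, 0], ![0, 0, 1, 0], ![0, 1, 0, 1], ![0, 0, 2, 0]] (fun s t hst => by fin_cases s <;> fin_cases t <;> first | exact absurd rfl hst | assumption)
                    ![1, 1, 2, 2] (by decide) (by decide) (by decide)).elim
                · have L32 : 3 ≤ b 3 2 := by omega
                  exact (C.too_big ![![0, 0, 0, 0], ![0, 0, 1, 0], ![0, 1, 0, 1], ![0, 0, 3, 0]] (fun s t hst => by fin_cases s <;> fin_cases t <;> first | exact absurd rfl hst | assumption)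
                    ![0, 1, 2, 3] (by decide) (by decide) (by decide) (by decide)).elim
            · have L23 : 2 ≤ b 2 3 := by omega
              rcases le_or_gt (b 2 3) 2 with hc | hc
              · have U23 : b 2 3 ≤ 2 := hc
                rcases le_or_gt (b 3 2) 1 with hc | hc
                · have U32 : b 3 2 ≤ 1 := hc
                  exact (C.too_small ![![0, 0, 0, 0], ![0, 0, 1, 0], ![0, 1, 0, 2], ![0, 0, 1, 0]] (fun s t hst => by fin_cases s <;> fin_cases t <;> first | exact absurd rfl hst | assumption)
                    ![1, 1, 2, 1] (by decide) (by decide) (by decide)).elim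
                · have L32 : 2 ≤ b 3 2 := by omega
                  exact (C.too_big ![![0, 0, 0, 0], ![0, 0, 1, 0], ![0, 1, 0, 2], ![0, 0, 2, 0]] (fun s t hst => by fin_cases s <;> fin_cases t <;> first | exact absurd rfl hst | assumption)
                    ![0, 1, 2, 2] (by decide) (by decide) (by decide) (by decide)).elim
              · have L23 : 3 ≤ b 2 3 := by omega
                exact (C.too_big ![![0, 0, 0, 0], ![0, 0, 1, 0], ![0, 1, 0, 3], ![0, 0, 1, 0]] (fun s t hst => by fin_cases s <;> fin_cases t <;> first | exact absurd rfl hst | assumption)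
                  ![0, 1, 2, 1] (by decide) (by decide) (by decide) (by decide)).elim
        · have L21 : 2 ≤ b 2 1 := by omega
          rcases le_or_gt (b 2 1) 2 with hc | hc
          · have U21 : b 2 1 ≤ 2 := hc
            rcases le_or_gt (b 2 3) 0 with hc | hc
            · have U23 : b 2 3 ≤ 0 := hc
              have U32 : b 3 2 ≤ 0 := C.le_zero_symm (by decide) hc
              exact (C.too_small ![![0, 0, 0, 0], ![0, 0, 1, 0], ![0, 2, 0, 0], ![0, 0, 0, 0]] (fun s t hst => by fin_cases s <;> fin_cases t <;> first | exact absurd rfl hst | assumption)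
                ![1, 1, 1, 1] (by decide) (by decide) (by decide)).elim
            · have L23 : 1 ≤ b 2 3 := by omega
              have L32 : 1 ≤ b 3 2 := C.pos_symm (by decide) (by omega)
              rcases le_or_gt (b 2 3) 1 with hc | hc
              · have U23 : b 2 3 ≤ 1 := hc
                rcases le_or_gt (b 3 2) 1 with hc | hc
                · have U32 : b 3 2 ≤ 1 := hc
                  exact (C.too_small ![![0, 0, 0, 0], ![0, 0, 1, 0], ![0, 2, 0, 1], ![0, 0, 1, 0]] (fun s t hst => by fin_cases s <;> fin_cases t <;> first | exact absurd rfl hst | assumption)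
                    ![1, 1, 2, 1] (by decide) (by decide) (by decide)).elim
                · have L32 : 2 ≤ b 3 2 := by omega
                  exact (C.too_big ![![0, 0, 0, 0], ![0, 0, 1, 0], ![0, 2, 0, 1], ![0, 0, 2, 0]] (fun s t hst => by fin_cases s <;> fin_cases t <;> first | exact absurd rfl hst | assumption)
                    ![0, 1, 2, 2] (by decide) (by decide) (by decide) (by decide)).elim
              · have L23 : 2 ≤ b 2 3 := by omega
                exact (C.too_big ![![0, 0, 0, 0], ![0, 0, 1, 0], ![0, 2, 0, 2], ![0, 0, 1, 0]] (fun s t hst => by fin_cases s <;> fin_cases t <;> first | exact absurd rfl hst | assumption)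
                  ![0, 1, 2, 1] (by decide) (by decide) (by decide) (by decide)).elim
          · have L21 : 3 ≤ b 2 1 := by omega
            rcases le_or_gt (b 2 3) 0 with hc | hc
            · have U23 : b 2 3 ≤ 0 := hc
              have U32 : b 3 2 ≤ 0 := C.le_zero_symm (by decide) hc
              exact (C.too_small ![![0, 0, 0, 0], ![0, 0, 1, 0], ![0, 3, 0, 0], ![0, 0, 0, 0]] (fun s t hst => by fin_cases s <;> fin_cases t <;> first | exact absurd rfl hst | assumption)
                ![1, 1, 2, 1] (by decide) (by decide) (by decide)).elim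
            · have L23 : 1 ≤ b 2 3 := by omega
              have L32 : 1 ≤ b 3 2 := C.pos_symm (by decide) (by omega)
              exact (C.too_big ![![0, 0, 0, 0], ![0, 0, 1, 0], ![0, 3, 0, 1], ![0, 0, 1, 0]] (fun s t hst => by fin_cases s <;> fin_cases t <;> first | exact absurd rfl hst | assumption)
                ![0, 1, 2, 1] (by decide) (by decide) (by decide) (by decide)).elim
      · have L13 : 1 ≤ b 1 3 := by omega
        have L31 : 1 ≤ b 3 1 := C.pos_symm (by decide) (by omega)
        rcases le_or_gt (b 1 3) 1 with hc | hc
        · have U13 : b 1 3 ≤ 1 := hc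
          rcases le_or_gt (b 2 1) 1 with hc | hc
          · have U21 : b 2 1 ≤ 1 := hc
            rcases le_or_gt (b 2 3) 0 with hc | hc
            · have U23 : b 2 3 ≤ 0 := hc
              have U32 : b 3 2 ≤ 0 := C.le_zero_symm (by decide) hc
              rcases le_or_gt (b 3 1) 1 with hc | hc
              · have U31 : b 3 1 ≤ 1 := hc
                exact (C.too_small ![![0, 0, 0, 0], ![0, 0, 1, 1], ![0, 1, 0, 0], ![0, 1, 0, 0]] (fun s t hst => by fin_cases s <;> fin_cases t <;> first | exact absurd rfl hst | assumption)
                  ![1, 1, 1, 1] (by decide) (by decide) (by decide)).elim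
              · have L31 : 2 ≤ b 3 1 := by omega
                rcases le_or_gt (b 3 1) 2 with hc | hc
                · have U31 : b 3 1 ≤ 2 := hc
                  exact (C.too_small ![![0, 0, 0, 0], ![0, 0, 1, 1], ![0, 1, 0, 0], ![0, 2, 0, 0]] (fun s t hst => by fin_cases s <;> fin_cases t <;> first | exact absurd rfl hst | assumption)
                    ![1, 2, 1, 2] (by decide) (by decide) (by decide)).elim
                · have L31 : 3 ≤ b 3 1 := by omega
                  exact (C.too_big ![![0, 0, 0, 0], ![0, 0, 1, 1], ![0, 1, 0, 0], ![0, 3, 0, 0]] (fun s t hst => by fin_cases s <;> fin_cases t <;> first | exact absurd rfl hst | assumption)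
                    ![0, 2, 1, 3] (by decide) (by decide) (by decide) (by decide)).elim
            · have L23 : 1 ≤ b 2 3 := by omega
              have L32 : 1 ≤ b 3 2 := C.pos_symm (by decide) (by omega)
              exact (C.too_big ![![0, 0, 0, 0], ![0, 0, 1, 1], ![0, 1, 0, 1], ![0, 1, 1, 0]] (fun s t hst => by fin_cases s <;> fin_cases t <;> first | exact absurd rfl hst | assumption)
                ![0, 1, 1, 1] (by decide) (by decide) (by decide) (by decide)).elim
          · have L21 : 2 ≤ b 2 1 := by omega
            rcases le_or_gt (b 2 1) 2 with hc | hc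
            · have U21 : b 2 1 ≤ 2 := hc
              rcases le_or_gt (b 2 3) 0 with hc | hc
              · have U23 : b 2 3 ≤ 0 := hc
                have U32 : b 3 2 ≤ 0 := C.le_zero_symm (by decide) hc
                rcases le_or_gt (b 3 1) 1 with hc | hc
                · have U31 : b 3 1 ≤ 1 := hc
                  exact (C.too_small ![![0, 0, 0, 0], ![0, 0, 1, 1], ![0, 2, 0, 0], ![0, 1, 0, 0]] (fun s t hst => by fin_cases s <;> fin_cases t <;> first | exact absurd rfl hst | assumption)
                    ![1, 2, 2, 1] (by decide) (by decide) (by decide)).elim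
                · have L31 : 2 ≤ b 3 1 := by omega
                  exact (C.too_big ![![0, 0, 0, 0], ![0, 0, 1, 1], ![0, 2, 0, 0], ![0, 2, 0, 0]] (fun s t hst => by fin_cases s <;> fin_cases t <;> first | exact absurd rfl hst | assumption)
                    ![0, 1, 1, 1] (by decide) (by decide) (by decide) (by decide)).elim
              · have L23 : 1 ≤ b 2 3 := by omega
                have L32 : 1 ≤ b 3 2 := C.pos_symm (by decide) (by omega)
                exact (C.too_big ![![0, 0, 0, 0], ![0, 0, 1, 1], ![0, 2, 0, 1], ![0, 1, 1, 0]] (fun s t hst => by fin_cases s <;> fin_cases t <;> first | exact absurd rfl hst | assumption)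
                  ![0, 1, 1, 1] (by decide) (by decide) (by decide) (by decide)).elim
            · have L21 : 3 ≤ b 2 1 := by omega
              exact (C.too_big ![![0, 0, 0, 0], ![0, 0, 1, 1], ![0, 3, 0, 0], ![0, 1, 0, 0]] (fun s t hst => by fin_cases s <;> fin_cases t <;> first | exact absurd rfl hst | assumption)
                ![0, 2, 3, 1] (by decide) (by decide) (by decide) (by decide)).elim
        · have L13 : 2 ≤ b 1 3 := by omega
          rcases le_or_gt (b 1 3) 2 with hc | hc
          · have U13 : b 1 3 ≤ 2 := hc
            rcases le_or_gt (b 2 1) 1 with hc | hc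
            · have U21 : b 2 1 ≤ 1 := hc
              rcases le_or_gt (b 2 3) 0 with hc | hc
              · have U23 : b 2 3 ≤ 0 := hc
                have U32 : b 3 2 ≤ 0 := C.le_zero_symm (by decide) hc
                rcases le_or_gt (b 3 1) 1 with hc | hc
                · have U31 : b 3 1 ≤ 1 := hc
                  exact (C.too_small ![![0, 0, 0, 0], ![0, 0, 1, 2], ![0, 1, 0, 0], ![0, 1, 0, 0]] (fun s t hst => by fin_cases s <;> fin_cases t <;> first | exact absurd rfl hst | assumption)
                    ![1, 2, 1, 1] (by decide) (by decide) (by decide)).elim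
                · have L31 : 2 ≤ b 3 1 := by omega
                  exact (C.too_big ![![0, 0, 0, 0], ![0, 0, 1, 2], ![0, 1, 0, 0], ![0, 2, 0, 0]] (fun s t hst => by fin_cases s <;> fin_cases t <;> first | exact absurd rfl hst | assumption)
                    ![0, 2, 1, 2] (by decide) (by decide) (by decide) (by decide)).elim
              · have L23 : 1 ≤ b 2 3 := by omega
                have L32 : 1 ≤ b 3 2 := C.pos_symm (by decide) (by omega)
                exact (C.too_big ![![0, 0, 0, 0], ![0, 0, 1, 2], ![0, 1, 0, 1], ![0, 1, 1, 0]] (fun s t hst => by fin_cases s <;> fin_cases t <;> first | exact absurd rfl hst | assumption)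
                  ![0, 1, 1, 1] (by decide) (by decide) (by decide) (by decide)).elim
            · have L21 : 2 ≤ b 2 1 := by omega
              exact (C.too_big ![![0, 0, 0, 0], ![0, 0, 1, 2], ![0, 2, 0, 0], ![0, 1, 0, 0]] (fun s t hst => by fin_cases s <;> fin_cases t <;> first | exact absurd rfl hst | assumption)
                ![0, 2, 2, 1] (by decide) (by decide) (by decide) (by decide)).elim
          · have L13 : 3 ≤ b 1 3 := by omega
            exact (C.too_big ![![0, 0, 0, 0], ![0, 0, 1, 3], ![0, 1, 0, 0], ![0, 1, 0, 0]] (fun s t hst => by fin_cases s <;> fin_cases t <;> first | exact absurd rfl hst | assumption)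
              ![0, 2, 1, 1] (by decide) (by decide) (by decide) (by decide)).elim
    · have L12 : 2 ≤ b 1 2 := by omega
      rcases le_or_gt (b 1 2) 2 with hc | hc
      · have U12 : b 1 2 ≤ 2 := hc
        rcases le_or_gt (b 1 3) 0 with hc | hc
        · have U13 : b 1 3 ≤ 0 := hc
          have U31 : b 3 1 ≤ 0 := C.le_zero_symm (by decide) hc
          rcases le_or_gt (b 2 1) 1 with hc | hc
          · have U21 : b 2 1 ≤ 1 := hc
            rcases le_or_gt (b 2 3) 0 with hc | hc
            · have U23 : b 2 3 ≤ 0 := hc
              have U32 : b 3 2 ≤ 0 := C.le_zero_symm (by decide) hc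
              exact (C.too_small ![![0, 0, 0, 0], ![0, 0, 2, 0], ![0, 1, 0, 0], ![0, 0, 0, 0]] (fun s t hst => by fin_cases s <;> fin_cases t <;> first | exact absurd rfl hst | assumption)
                ![1, 1, 1, 1] (by decide) (by decide) (by decide)).elim
            · have L23 : 1 ≤ b 2 3 := by omega
              have L32 : 1 ≤ b 3 2 := C.pos_symm (by decide) (by omega)
              rcases le_or_gt (b 2 3) 1 with hc | hc
              · have U23 : b 2 3 ≤ 1 := hc
                rcases le_or_gt (b 3 2) 1 with hc | hc
                · have U32 : b 3 2 ≤ 1 := hc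
                  exact (C.too_small ![![0, 0, 0, 0], ![0, 0, 2, 0], ![0, 1, 0, 1], ![0, 0, 1, 0]] (fun s t hst => by fin_cases s <;> fin_cases t <;> first | exact absurd rfl hst | assumption)
                    ![1, 2, 2, 1] (by decide) (by decide) (by decide)).elim
                · have L32 : 2 ≤ b 3 2 := by omega
                  exact (C.too_big ![![0, 0, 0, 0], ![0, 0, 2, 0], ![0, 1, 0, 1], ![0, 0, 2, 0]] (fun s t hst => by fin_cases s <;> fin_cases t <;> first | exact absurd rfl hst | assumption)
                    ![0, 1, 1, 1] (by decide) (by decide) (by decide) (by decide)).elim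
              · have L23 : 2 ≤ b 2 3 := by omega
                exact (C.too_big ![![0, 0, 0, 0], ![0, 0, 2, 0], ![0, 1, 0, 2], ![0, 0, 1, 0]] (fun s t hst => by fin_cases s <;> fin_cases t <;> first | exact absurd rfl hst | assumption)
                  ![0, 2, 2, 1] (by decide) (by decide) (by decide) (by decide)).elim
          · have L21 : 2 ≤ b 2 1 := by omega
            exact (C.too_big ![![0, 0, 0, 0], ![0, 0, 2, 0], ![0, 2, 0, 0], ![0, 0, 0, 0]] (fun s t hst => by fin_cases s <;> fin_cases t <;> first | exact absurd rfl hst | assumption)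
              ![0, 1, 1, 0] (by decide) (by decide) (by decide) (by decide)).elim
        · have L13 : 1 ≤ b 1 3 := by omega
          have L31 : 1 ≤ b 3 1 := C.pos_symm (by decide) (by omega)
          rcases le_or_gt (b 1 3) 1 with hc | hc
          · have U13 : b 1 3 ≤ 1 := hc
            rcases le_or_gt (b 2 1) 1 with hc | hc
            · have U21 : b 2 1 ≤ 1 := hc
              rcases le_or_gt (b 2 3) 0 with hc | hc
              · have U23 : b 2 3 ≤ 0 := hc
                have U32 : b 3 2 ≤ 0 := C.le_zero_symm (by decide) hc
                rcases le_or_gt (b 3 1) 1 with hc | hc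
                · have U31 : b 3 1 ≤ 1 := hc
                  exact (C.too_small ![![0, 0, 0, 0], ![0, 0, 2, 1], ![0, 1, 0, 0], ![0, 1, 0, 0]] (fun s t hst => by fin_cases s <;> fin_cases t <;> first | exact absurd rfl hst | assumption)
                    ![1, 2, 1, 1] (by decide) (by decide) (by decide)).elim
                · have L31 : 2 ≤ b 3 1 := by omega
                  exact (C.too_big ![![0, 0, 0, 0], ![0, 0, 2, 1], ![0, 1, 0, 0], ![0, 2, 0, 0]] (fun s t hst => by fin_cases s <;> fin_cases t <;> first | exact absurd rfl hst | assumption)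
                    ![0, 2, 1, 2] (by decide) (by decide) (by decide) (by decide)).elim
              · have L23 : 1 ≤ b 2 3 := by omega
                have L32 : 1 ≤ b 3 2 := C.pos_symm (by decide) (by omega)
                exact (C.too_big ![![0, 0, 0, 0], ![0, 0, 2, 1], ![0, 1, 0, 1], ![0, 1, 1, 0]] (fun s t hst => by fin_cases s <;> fin_cases t <;> first | exact absurd rfl hst | assumption)
                  ![0, 1, 1, 1] (by decide) (by decide) (by decide) (by decide)).elim
            · have L21 : 2 ≤ b 2 1 := by omega
              exact (C.too_big ![![0, 0, 0, 0], ![0, 0, 2, 1], ![0, 2, 0, 0], ![0, 1, 0, 0]] (fun s t hst => by fin_cases s <;> fin_cases t <;> first | exact absurd rfl hst | assumption)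
                ![0, 2, 2, 1] (by decide) (by decide) (by decide) (by decide)).elim
          · have L13 : 2 ≤ b 1 3 := by omega
            exact (C.too_big ![![0, 0, 0, 0], ![0, 0, 2, 2], ![0, 1, 0, 0], ![0, 1, 0, 0]] (fun s t hst => by fin_cases s <;> fin_cases t <;> first | exact absurd rfl hst | assumption)
              ![0, 2, 1, 1] (by decide) (by decide) (by decide) (by decide)).elim
      · have L12 : 3 ≤ b 1 2 := by omega
        rcases le_or_gt (b 1 3) 0 with hc | hc
        · have U13 : b 1 3 ≤ 0 := hc
          have U31 : b 3 1 ≤ 0 := C.le_zero_symm (by decide) hc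
          rcases le_or_gt (b 2 1) 1 with hc | hc
          · have U21 : b 2 1 ≤ 1 := hc
            rcases le_or_gt (b 2 3) 0 with hc | hc
            · have U23 : b 2 3 ≤ 0 := hc
              have U32 : b 3 2 ≤ 0 := C.le_zero_symm (by decide) hc
              exact (C.too_small ![![0, 0, 0, 0], ![0, 0, 3, 0], ![0, 1, 0, 0], ![0, 0, 0, 0]] (fun s t hst => by fin_cases s <;> fin_cases t <;> first | exact absurd rfl hst | assumption)
                ![1, 2, 1, 1] (by decide) (by decide) (by decide)).elim
            · have L23 : 1 ≤ b 2 3 := by omega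
              have L32 : 1 ≤ b 3 2 := C.pos_symm (by decide) (by omega)
              exact (C.too_big ![![0, 0, 0, 0], ![0, 0, 3, 0], ![0, 1, 0, 1], ![0, 0, 1, 0]] (fun s t hst => by fin_cases s <;> fin_cases t <;> first | exact absurd rfl hst | assumption)
                ![0, 3, 2, 1] (by decide) (by decide) (by decide) (by decide)).elim
          · have L21 : 2 ≤ b 2 1 := by omega
            exact (C.too_big ![![0, 0, 0, 0], ![0, 0, 3, 0], ![0, 2, 0, 0], ![0, 0, 0, 0]] (fun s t hst => by fin_cases s <;> fin_cases t <;> first | exact absurd rfl hst | assumption)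
              ![0, 1, 1, 0] (by decide) (by decide) (by decide) (by decide)).elim
        · have L13 : 1 ≤ b 1 3 := by omega
          have L31 : 1 ≤ b 3 1 := C.pos_symm (by decide) (by omega)
          exact (C.too_big ![![0, 0, 0, 0], ![0, 0, 3, 1], ![0, 1, 0, 0], ![0, 1, 0, 0]] (fun s t hst => by fin_cases s <;> fin_cases t <;> first | exact absurd rfl hst | assumption)
            ![0, 2, 1, 1] (by decide) (by decide) (by decide) (by decide)).elim

end Groth.Agent.Lib.Helper36.G4
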