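import Groth.Agent.Lib.Helper36.G4.Defs

/-! Part 11 of the case analysis for the genus one classification, `n = 4` (generated, helper36). -/

set_option autoImplicit false
set_option linter.unusedVariables false
open Finset
open Models Models.NumericalType
open Groth.Agent.Lib.Helper36

namespace Groth.Agent.Lib.Helper36.G4

theorem part11 (T : Models.NumericalType 4) (b : Fin 4 → Fin 4 → ℤ) (C : NT.AffCtx T b)
    (L01 : 1 ≤ b 0 1) (L02 : 1 ≤ b 0 2) (L03 : 0 ≤ b 0 3) (L10 : 1 ≤ b 1 0) (L12 : 0 ≤ b 1 2) (L13 : 0 ≤ b 1 3) (L20 : 1 ≤ b 2 0) (L21 : 0 ≤ b 2 1) (L23 : 0 ≤ b 2 3) (L30 : 0 ≤ b 3 0) (L31 : 0 ≤ b 3 1) (L32 : 0 ≤ b 3 2)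
    (U01 : b 0 1 ≤ 1) (U02 : b 0 2 ≤ 3) (U03 : b 0 3 ≤ 3) (U10 : b 1 0 ≤ 3) (U12 : b 1 2 ≤ 3) (U13 : b 1 3 ≤ 3) (U20 : b 2 0 ≤ 3) (U21 : b 2 1 ≤ 3) (U23 : b 2 3 ≤ 3) (U30 : b 3 0 ≤ 3) (U31 : b 3 1 ≤ 3) (U32 : b 3 2 ≤ 3) : Goal T := by
  unfold Goal
  rcases le_or_gt (b 0 2) 1 with hc | hc
  · have U02 : b 0 2 ≤ 1 := hc
    rcases le_or_gt (b 0 3) 0 with hc | hc
    · have U03 : b 0 3 ≤ 0 := hc
      have U30 : b 3 0 ≤ 0 := C.le_zero_symm (by decide) hc
      rcases le_or_gt (b 1 0) 1 with hc | hc
      · have U10 : b 1 0 ≤ 1 := hc
        rcases le_or_gt (b 1 2) 0 with hc | hc
        · have U12 : b 1 2 ≤ 0 := hc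
          have U21 : b 2 1 ≤ 0 := C.le_zero_symm (by decide) hc
          rcases le_or_gt (b 1 3) 0 with hc | hc
          · have U13 : b 1 3 ≤ 0 := hc
            have U31 : b 3 1 ≤ 0 := C.le_zero_symm (by decide) hc
            rcases le_or_gt (b 2 0) 1 with hc | hc
            · have U20 : b 2 0 ≤ 1 := hc
              rcases le_or_gt (b 2 3) 0 with hc | hc
              · have U23 : b 2 3 ≤ 0 := hc
                have U32 : b 3 2 ≤ 0 := C.le_zero_symm (by decide) hc
                exact (C.too_small ![![0, 1, 1, 0], ![1, 0, 0, 0], ![1, 0, 0, 0], ![0, 0, 0, 0]] (fun s t hst => by fin_cases s <;> fin_cases t <;> first | exact absurd rfl hst | assumption)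
                  ![1, 1, 1, 1] (by decide) (by decide) (by decide)).elim
              · have L23 : 1 ≤ b 2 3 := by omega
                have L32 : 1 ≤ b 3 2 := C.pos_symm (by decide) (by omega)
                rcases le_or_gt (b 2 3) 1 with hc | hc
                · have U23 : b 2 3 ≤ 1 := hc
                  rcases le_or_gt (b 3 2) 1 with hc | hc
                  · have U32 : b 3 2 ≤ 1 := hc
                    exact (C.too_small ![![0, 1, 1, 0], ![1, 0, 0, 0], ![1, 0, 0, 1], ![0, 0, 1, 0]] (fun s t hst => by fin_cases s <;> fin_cases t <;> first | exact absurd rfl hst | assumption)
                      ![2, 1, 2, 1] (by decide) (by decide) (by decide)).elim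
                  · have L32 : 2 ≤ b 3 2 := by omega
                    rcases le_or_gt (b 3 2) 2 with hc | hc
                    · have U32 : b 3 2 ≤ 2 := hc
                      exact (C.too_small ![![0, 1, 1, 0], ![1, 0, 0, 0], ![1, 0, 0, 1], ![0, 0, 2, 0]] (fun s t hst => by fin_cases s <;> fin_cases t <;> first | exact absurd rfl hst | assumption)
                        ![4, 2, 5, 5] (by decide) (by decide) (by decide)).elim
                    · have L32 : 3 ≤ b 3 2 := by omega
                      exact (C.too_big ![![0, 1, 1, 0], ![1, 0, 0, 0], ![1, 0, 0, 1], ![0, 0, 3, 0]] (fun s t hst => by fin_cases s <;> fin_cases t <;> first | exact absurd rfl hst | assumption)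
                        ![1, 0, 2, 3] (by decide) (by decide) (by decide) (by decide)).elim
                · have L23 : 2 ≤ b 2 3 := by omega
                  rcases le_or_gt (b 2 3) 2 with hc | hc
                  · have U23 : b 2 3 ≤ 2 := hc
                    rcases le_or_gt (b 3 2) 1 with hc | hc
                    · have U32 : b 3 2 ≤ 1 := hc
                      exact (C.too_small ![![0, 1, 1, 0], ![1, 0, 0, 0], ![1, 0, 0, 2], ![0, 0, 1, 0]] (fun s t hst => by fin_cases s <;> fin_cases t <;> first | exact absurd rfl hst | assumption)
                        ![2, 1, 2, 1] (by decide) (by decide) (by decide)).elim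
                    · have L32 : 2 ≤ b 3 2 := by omega
                      exact (C.too_big ![![0, 1, 1, 0], ![1, 0, 0, 0], ![1, 0, 0, 2], ![0, 0, 2, 0]] (fun s t hst => by fin_cases s <;> fin_cases t <;> first | exact absurd rfl hst | assumption)
                        ![0, 0, 1, 1] (by decide) (by decide) (by decide) (by decide)).elim
                  · have L23 : 3 ≤ b 2 3 := by omega
                    exact (C.too_big ![![0, 1, 1, 0], ![1, 0, 0, 0], ![1, 0, 0, 3], ![0, 0, 1, 0]] (fun s t hst => by fin_cases s <;> fin_cases t <;> first | exact absurd rfl hst | assumption)
                      ![1, 0, 2, 1] (by decide) (by decide) (by decide) (by decide)).elim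
            · have L20 : 2 ≤ b 2 0 := by omega
              rcases le_or_gt (b 2 0) 2 with hc | hc
              · have U20 : b 2 0 ≤ 2 := hc
                rcases le_or_gt (b 2 3) 0 with hc | hc
                · have U23 : b 2 3 ≤ 0 := hc
                  have U32 : b 3 2 ≤ 0 := C.le_zero_symm (by decide) hc
                  exact (C.too_small ![![0, 1, 1, 0], ![1, 0, 0, 0], ![2, 0, 0, 0], ![0, 0, 0, 0]] (fun s t hst => by fin_cases s <;> fin_cases t <;> first | exact absurd rfl hst | assumption)
                    ![2, 1, 2, 1] (by decide) (by decide) (by decide)).elim
                · have L23 : 1 ≤ b 2 3 := by omega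
                  have L32 : 1 ≤ b 3 2 := C.pos_symm (by decide) (by omega)
                  rcases le_or_gt (b 2 3) 1 with hc | hc
                  · have U23 : b 2 3 ≤ 1 := hc
                    rcases le_or_gt (b 3 2) 1 with hc | hc
                    · have U32 : b 3 2 ≤ 1 := hc
                      exact (C.too_small ![![0, 1, 1, 0], ![1, 0, 0, 0], ![2, 0, 0, 1], ![0, 0, 1, 0]] (fun s t hst => by fin_cases s <;> fin_cases t <;> first | exact absurd rfl hst | assumption)
                        ![6, 3, 8, 4] (by decide) (by decide) (by decide)).elim
                    · have L32 : 2 ≤ b 3 2 := by omega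
                      exact (C.too_big ![![0, 1, 1, 0], ![1, 0, 0, 0], ![2, 0, 0, 1], ![0, 0, 2, 0]] (fun s t hst => by fin_cases s <;> fin_cases t <;> first | exact absurd rfl hst | assumption)
                        ![1, 0, 2, 2] (by decide) (by decide) (by decide) (by decide)).elim
                  · have L23 : 2 ≤ b 2 3 := by omega
                    exact (C.too_big ![![0, 1, 1, 0], ![1, 0, 0, 0], ![2, 0, 0, 2], ![0, 0, 1, 0]] (fun s t hst => by fin_cases s <;> fin_cases t <;> first | exact absurd rfl hst | assumption)
                      ![1, 0, 2, 1] (by decide) (by decide) (by decide) (by decide)).elim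
              · have L20 : 3 ≤ b 2 0 := by omega
                exact (C.too_big ![![0, 1, 1, 0], ![1, 0, 0, 0], ![3, 0, 0, 0], ![0, 0, 0, 0]] (fun s t hst => by fin_cases s <;> fin_cases t <;> first | exact absurd rfl hst | assumption)
                  ![2, 1, 3, 0] (by decide) (by decide) (by decide) (by decide)).elim
          · have L13 : 1 ≤ b 1 3 := by omega
            have L31 : 1 ≤ b 3 1 := C.pos_symm (by decide) (by omega)
            rcases le_or_gt (b 1 3) 1 with hc | hc
            · have U13 : b 1 3 ≤ 1 := hc
              rcases le_or_gt (b 2 0) 1 with hc | hc
              · have U20 : b 2 0 ≤ 1 := hc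
                rcases le_or_gt (b 2 3) 0 with hc | hc
                · have U23 : b 2 3 ≤ 0 := hc
                  have U32 : b 3 2 ≤ 0 := C.le_zero_symm (by decide) hc
                  rcases le_or_gt (b 3 1) 1 with hc | hc
                  · have U31 : b 3 1 ≤ 1 := hc
                    exact (C.too_small ![![0, 1, 1, 0], ![1, 0, 0, 1], ![1, 0, 0, 0], ![0, 1, 0, 0]] (fun s t hst => by fin_cases s <;> fin_cases t <;> first | exact absurd rfl hst | assumption)
                      ![2, 2, 1, 1] (by decide) (by decide) (by decide)).elim
                  · have L31 : 2 ≤ b 3 1 := by omega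
                    rcases le_or_gt (b 3 1) 2 with hc | hc
                    · have U31 : b 3 1 ≤ 2 := hc
                      exact (C.too_small ![![0, 1, 1, 0], ![1, 0, 0, 1], ![1, 0, 0, 0], ![0, 2, 0, 0]] (fun s t hst => by fin_cases s <;> fin_cases t <;> first | exact absurd rfl hst | assumption)
                        ![4, 5, 2, 5] (by decide) (by decide) (by decide)).elim
                    · have L31 : 3 ≤ b 3 1 := by omega
                      exact (C.too_big ![![0, 1, 1, 0], ![1, 0, 0, 1], ![1, 0, 0, 0], ![0, 3, 0, 0]] (fun s t hst => by fin_cases s <;> fin_cases t <;> first | exact absurd rfl hst | assumption)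
                        ![1, 2, 0, 3] (by decide) (by decide) (by decide) (by decide)).elim
                · have L23 : 1 ≤ b 2 3 := by omega
                  have L32 : 1 ≤ b 3 2 := C.pos_symm (by decide) (by omega)
                  rcases le_or_gt (b 2 3) 1 with hc | hc
                  · have U23 : b 2 3 ≤ 1 := hc
                    rcases le_or_gt (b 3 1) 1 with hc | hc
                    · have U31 : b 3 1 ≤ 1 := hc
                      rcases le_or_gt (b 3 2) 1 with hc | hc
                      · have U32 : b 3 2 ≤ 1 := hc
                        have e01 : b 0 1 = 1 := le_antisymm U01 L01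
                        have e02 : b 0 2 = 1 := le_antisymm U02 L02
                        have e03 : b 0 3 = 0 := le_antisymm U03 L03
                        have e10 : b 1 0 = 1 := le_antisymm U10 L10
                        have e12 : b 1 2 = 0 := le_antisymm U12 L12
                        have e13 : b 1 3 = 1 := le_antisymm U13 L13
                        have e20 : b 2 0 = 1 := le_antisymm U20 L20
                        have e21 : b 2 1 = 0 := le_antisymm U21 L21
                        have e23 : b 2 3 = 1 := le_antisymm U23 L23
                        have e30 : b 3 0 = 0 := le_antisymm U30 L30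
                        have e31 : b 3 1 = 1 := le_antisymm U31 L31
                        have e32 : b 3 2 = 1 := le_antisymm U32 L32
                        have row0 : 1 * T.m 1 + 1 * T.m 2 + 0 * T.m 3 = 2 * T.m 0 := by
                          have h := C.row 0
                          simp [Fin.sum_univ_four] at h
                          rw [e01, e02, e03] at h
                          linarith
                        have row1 : 1 * T.m 0 + 0 * T.m 2 + 1 * T.m 3 = 2 * T.m 1 := by
                          have h := C.row 1
                          simp [Fin.sum_univ_four] at h
                          rw [e10, e12, e13] at h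
                          linarith
                        have row2 : 1 * T.m 0 + 0 * T.m 1 + 1 * T.m 3 = 2 * T.m 2 := by
                          have h := C.row 2
                          simp [Fin.sum_univ_four] at h
                          rw [e20, e21, e23] at h
                          linarith
                        have row3 : 0 * T.m 0 + 1 * T.m 1 + 1 * T.m 2 = 2 * T.m 3 := by
                          have h := C.row 3
                          simp [Fin.sum_univ_four] at h
                          rw [e30, e31, e32] at h
                          linarith
                        have hb01 : T.a 0 1 = 1 * T.w 0 := by have h := C.hb 0 1 (by decide); rw [e01] at h; exact h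
                        have hb02 : T.a 0 2 = 1 * T.w 0 := by have h := C.hb 0 2 (by decide); rw [e02] at h; exact h
                        have hb03 : T.a 0 3 = 0 * T.w 0 := by have h := C.hb 0 3 (by decide); rw [e03] at h; exact h
                        have hb10 : T.a 1 0 = 1 * T.w 1 := by have h := C.hb 1 0 (by decide); rw [e10] at h; exact h
                        have hb12 : T.a 1 2 = 0 * T.w 1 := by have h := C.hb 1 2 (by decide); rw [e12] at h; exact h
                        have hb13 : T.a 1 3 = 1 * T.w 1 := by have h := C.hb 1 3 (by decide); rw [e13] at h; exact h
                        have hb20 : T.a 2 0 = 1 * T.w 2 := by have h := C.hb 2 0 (by decide); rw [e20] at h; exact h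
                        have hb21 : T.a 2 1 = 0 * T.w 2 := by have h := C.hb 2 1 (by decide); rw [e21] at h; exact h
                        have hb23 : T.a 2 3 = 1 * T.w 2 := by have h := C.hb 2 3 (by decide); rw [e23] at h; exact h
                        have hb30 : T.a 3 0 = 0 * T.w 3 := by have h := C.hb 3 0 (by decide); rw [e30] at h; exact h
                        have hb31 : T.a 3 1 = 1 * T.w 3 := by have h := C.hb 3 1 (by decide); rw [e31] at h; exact h
                        have hb32 : T.a 3 2 = 1 * T.w 3 := by have h := C.hb 3 2 (by decide); rw [e32] at h; exact h
                        have r01 : 1 * T.w 0 = 1 * T.w 1 := by have h := C.rel (by decide : (0 : Fin 4) ≠ 1); rw [e01, e10] at h; exact h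
                        have r02 : 1 * T.w 0 = 1 * T.w 2 := by have h := C.rel (by decide : (0 : Fin 4) ≠ 2); rw [e02, e20] at h; exact h
                        have r03 : 0 * T.w 0 = 0 * T.w 3 := by have h := C.rel (by decide : (0 : Fin 4) ≠ 3); rw [e03, e30] at h; exact h
                        have r12 : 0 * T.w 1 = 0 * T.w 2 := by have h := C.rel (by decide : (1 : Fin 4) ≠ 2); rw [e12, e21] at h; exact h
                        have r13 : 1 * T.w 1 = 1 * T.w 3 := by have h := C.rel (by decide : (1 : Fin 4) ≠ 3); rw [e13, e31] at h; exact h
                        have r23 : 1 * T.w 2 = 1 * T.w 3 := by have h := C.rel (by decide : (2 : Fin 4) ≠ 3); rw [e23, e32] at h; exact h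
                        have d0 := C.diag 0
                        have d1 := C.diag 1
                        have d2 := C.diag 2
                        have d3 := C.diag 3
                        obtain ⟨σ, s0, s1, s2, s3⟩ : ∃ σ : Equiv.Perm (Fin 4), σ 0 = 0 ∧ σ 1 = 1 ∧ σ 2 = 3 ∧ σ 3 = 2 :=
                          ⟨⟨![0, 1, 3, 2], ![0, 1, 3, 2], by decide, by decide⟩, rfl, rfl, rfl, rfl⟩
                        refine ⟨fun i => (C.hm2 i).1, σ, T.m 0, T.w 0, ?_⟩
                        rw [s0, s1, s2, s3]
                        refine Or.inl ?_
                        refine ⟨by linarith, by linarith, by linarith, by linarith, by linarith, by linarith, by linarith, by linarith, by linarith, by linarith, by linarith, by linarith, by linarith, by linarith, by linarith, by linarith, by linarith, by linarith⟩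
                      · have L32 : 2 ≤ b 3 2 := by omega
                        exact (C.too_big_whole ![![0, 1, 1, 0], ![1, 0, 0, 1], ![1, 0, 0, 1], ![0, 1, 2, 0]] (fun s t hst => by fin_cases s <;> fin_cases t <;> first | exact absurd rfl hst | assumption)
                          ![2, 2, 2, 3] (by decide) (by decide) (by decide)).elim
                    · have L31 : 2 ≤ b 3 1 := by omega
                      exact (C.too_big_whole ![![0, 1, 1, 0], ![1, 0, 0, 1], ![1, 0, 0, 1], ![0, 2, 1, 0]] (fun s t hst => by fin_cases s <;> fin_cases t <;> first | exact absurd rfl hst | assumption)
                        ![2, 2, 2, 3] (by decide) (by decide) (by decide)).elim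
                  · have L23 : 2 ≤ b 2 3 := by omega
                    exact (C.too_big_whole ![![0, 1, 1, 0], ![1, 0, 0, 1], ![1, 0, 0, 2], ![0, 1, 1, 0]] (fun s t hst => by fin_cases s <;> fin_cases t <;> first | exact absurd rfl hst | assumption)
                      ![2, 2, 3, 2] (by decide) (by decide) (by decide)).elim
              · have L20 : 2 ≤ b 2 0 := by omega
                rcases le_or_gt (b 2 0) 2 with hc | hc
                · have U20 : b 2 0 ≤ 2 := hc
                  rcases le_or_gt (b 2 3) 0 with hc | hc
                  · have U23 : b 2 3 ≤ 0 := hc
                    have U32 : b 3 2 ≤ 0 := C.le_zero_symm (by decide) hc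
                    rcases le_or_gt (b 3 1) 1 with hc | hc
                    · have U31 : b 3 1 ≤ 1 := hc
                      exact (C.too_small ![![0, 1, 1, 0], ![1, 0, 0, 1], ![2, 0, 0, 0], ![0, 1, 0, 0]] (fun s t hst => by fin_cases s <;> fin_cases t <;> first | exact absurd rfl hst | assumption)
                        ![5, 4, 5, 2] (by decide) (by decide) (by decide)).elim
                    · have L31 : 2 ≤ b 3 1 := by omega
                      rcases le_or_gt (b 3 1) 2 with hc | hc
                      · have U31 : b 3 1 ≤ 2 := hc
                        have e01 : b 0 1 = 1 := le_antisymm U01 L01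
                        have e02 : b 0 2 = 1 := le_antisymm U02 L02
                        have e03 : b 0 3 = 0 := le_antisymm U03 L03
                        have e10 : b 1 0 = 1 := le_antisymm U10 L10
                        have e12 : b 1 2 = 0 := le_antisymm U12 L12
                        have e13 : b 1 3 = 1 := le_antisymm U13 L13
                        have e20 : b 2 0 = 2 := le_antisymm U20 L20
                        have e21 : b 2 1 = 0 := le_antisymm U21 L21
                        have e23 : b 2 3 = 0 := le_antisymm U23 L23
                        have e30 : b 3 0 = 0 := le_antisymm U30 L30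
                        have e31 : b 3 1 = 2 := le_antisymm U31 L31
                        have e32 : b 3 2 = 0 := le_antisymm U32 L32
                        have row0 : 1 * T.m 1 + 1 * T.m 2 + 0 * T.m 3 = 2 * T.m 0 := by
                          have h := C.row 0
                          simp [Fin.sum_univ_four] at h
                          rw [e01, e02, e03] at h
                          linarith
                        have row1 : 1 * T.m 0 + 0 * T.m 2 + 1 * T.m 3 = 2 * T.m 1 := by
                          have h := C.row 1
                          simp [Fin.sum_univ_four] at h
                          rw [e10, e12, e13] at h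
                          linarith
                        have row2 : 2 * T.m 0 + 0 * T.m 1 + 0 * T.m 3 = 2 * T.m 2 := by
                          have h := C.row 2
                          simp [Fin.sum_univ_four] at h
                          rw [e20, e21, e23] at h
                          linarith
                        have row3 : 0 * T.m 0 + 2 * T.m 1 + 0 * T.m 2 = 2 * T.m 3 := by
                          have h := C.row 3
                          simp [Fin.sum_univ_four] at h
                          rw [e30, e31, e32] at h
                          linarith
                        have hb01 : T.a 0 1 = 1 * T.w 0 := by have h := C.hb 0 1 (by decide); rw [e01] at h; exact h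
                        have hb02 : T.a 0 2 = 1 * T.w 0 := by have h := C.hb 0 2 (by decide); rw [e02] at h; exact h
                        have hb03 : T.a 0 3 = 0 * T.w 0 := by have h := C.hb 0 3 (by decide); rw [e03] at h; exact h
                        have hb10 : T.a 1 0 = 1 * T.w 1 := by have h := C.hb 1 0 (by decide); rw [e10] at h; exact h
                        have hb12 : T.a 1 2 = 0 * T.w 1 := by have h := C.hb 1 2 (by decide); rw [e12] at h; exact h
                        have hb13 : T.a 1 3 = 1 * T.w 1 := by have h := C.hb 1 3 (by decide); rw [e13] at h; exact h
                        have hb20 : T.a 2 0 = 2 * T.w 2 := by have h := C.hb 2 0 (by decide); rw [e20] at h; exact h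
                        have hb21 : T.a 2 1 = 0 * T.w 2 := by have h := C.hb 2 1 (by decide); rw [e21] at h; exact h
                        have hb23 : T.a 2 3 = 0 * T.w 2 := by have h := C.hb 2 3 (by decide); rw [e23] at h; exact h
                        have hb30 : T.a 3 0 = 0 * T.w 3 := by have h := C.hb 3 0 (by decide); rw [e30] at h; exact h
                        have hb31 : T.a 3 1 = 2 * T.w 3 := by have h := C.hb 3 1 (by decide); rw [e31] at h; exact h
                        have hb32 : T.a 3 2 = 0 * T.w 3 := by have h := C.hb 3 2 (by decide); rw [e32] at h; exact h
                        have r01 : 1 * T.w 0 = 1 * T.w 1 := by have h := C.rel (by decide : (0 : Fin 4) ≠ 1); rw [e01, e10] at h; exact h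
                        have r02 : 1 * T.w 0 = 2 * T.w 2 := by have h := C.rel (by decide : (0 : Fin 4) ≠ 2); rw [e02, e20] at h; exact h
                        have r03 : 0 * T.w 0 = 0 * T.w 3 := by have h := C.rel (by decide : (0 : Fin 4) ≠ 3); rw [e03, e30] at h; exact h
                        have r12 : 0 * T.w 1 = 0 * T.w 2 := by have h := C.rel (by decide : (1 : Fin 4) ≠ 2); rw [e12, e21] at h; exact h
                        have r13 : 1 * T.w 1 = 2 * T.w 3 := by have h := C.rel (by decide : (1 : Fin 4) ≠ 3); rw [e13, e31] at h; exact h
                        have r23 : 0 * T.w 2 = 0 * T.w 3 := by have h := C.rel (by decide : (2 : Fin 4) ≠ 3); rw [e23, e32] at h; exact h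
                        have d0 := C.diag 0
                        have d1 := C.diag 1
                        have d2 := C.diag 2
                        have d3 := C.diag 3
                        obtain ⟨σ, s0, s1, s2, s3⟩ : ∃ σ : Equiv.Perm (Fin 4), σ 0 = 2 ∧ σ 1 = 0 ∧ σ 2 = 1 ∧ σ 3 = 3 :=
                          ⟨⟨![2, 0, 1, 3], ![1, 2, 0, 3], by decide, by decide⟩, rfl, rfl, rfl, rfl⟩
                        refine ⟨fun i => (C.hm2 i).1, σ, T.m 2, T.w 2, ?_⟩
                        rw [s0, s1, s2, s3]
                        refine Or.inr (Or.inr (Or.inl ?_))
                        refine ⟨by linarith, by linarith, by linarith, by linarith, by linarith, by linarith, by linarith, by linarith, by linarith, by linarith, by linarith, by linarith, by linarith, by linarith, by linarith, by linarith, by linarith, by linarith⟩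
                      · have L31 : 3 ≤ b 3 1 := by omega
                        exact (C.too_big ![![0, 1, 1, 0], ![1, 0, 0, 1], ![2, 0, 0, 0], ![0, 3, 0, 0]] (fun s t hst => by fin_cases s <;> fin_cases t <;> first | exact absurd rfl hst | assumption)
                          ![1, 2, 0, 3] (by decide) (by decide) (by decide) (by decide)).elim
                  · have L23 : 1 ≤ b 2 3 := by omega
                    have L32 : 1 ≤ b 3 2 := C.pos_symm (by decide) (by omega)
                    exact (C.too_big_whole ![![0, 1, 1, 0], ![1, 0, 0, 1], ![2, 0, 0, 1], ![0, 1, 1, 0]] (fun s t hst => by fin_cases s <;> fin_cases t <;> first | exact absurd rfl hst | assumption)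
                      ![2, 2, 3, 2] (by decide) (by decide) (by decide)).elim
                · have L20 : 3 ≤ b 2 0 := by omega
                  exact (C.too_big ![![0, 1, 1, 0], ![1, 0, 0, 1], ![3, 0, 0, 0], ![0, 1, 0, 0]] (fun s t hst => by fin_cases s <;> fin_cases t <;> first | exact absurd rfl hst | assumption)
                    ![2, 1, 3, 0] (by decide) (by decide) (by decide) (by decide)).elim
            · have L13 : 2 ≤ b 1 3 := by omega
              rcases le_or_gt (b 1 3) 2 with hc | hc
              · have U13 : b 1 3 ≤ 2 := hc
                rcases le_or_gt (b 2 0) 1 with hc | hc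
                · have U20 : b 2 0 ≤ 1 := hc
                  rcases le_or_gt (b 2 3) 0 with hc | hc
                  · have U23 : b 2 3 ≤ 0 := hc
                    have U32 : b 3 2 ≤ 0 := C.le_zero_symm (by decide) hc
                    rcases le_or_gt (b 3 1) 1 with hc | hc
                    · have U31 : b 3 1 ≤ 1 := hc
                      exact (C.too_small ![![0, 1, 1, 0], ![1, 0, 0, 2], ![1, 0, 0, 0], ![0, 1, 0, 0]] (fun s t hst => by fin_cases s <;> fin_cases t <;> first | exact absurd rfl hst | assumption)
                        ![2, 2, 1, 1] (by decide) (by decide) (by decide)).elim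
                    · have L31 : 2 ≤ b 3 1 := by omega
                      exact (C.too_big ![![0, 1, 1, 0], ![1, 0, 0, 2], ![1, 0, 0, 0], ![0, 2, 0, 0]] (fun s t hst => by fin_cases s <;> fin_cases t <;> first | exact absurd rfl hst | assumption)
                        ![0, 1, 0, 1] (by decide) (by decide) (by decide) (by decide)).elim
                  · have L23 : 1 ≤ b 2 3 := by omega
                    have L32 : 1 ≤ b 3 2 := C.pos_symm (by decide) (by omega)
                    exact (C.too_big_whole ![![0, 1, 1, 0], ![1, 0, 0, 2], ![1, 0, 0, 1], ![0, 1, 1, 0]] (fun s t hst => by fin_cases s <;> fin_cases t <;> first | exact absurd rfl hst | assumption)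
                      ![2, 3, 2, 2] (by decide) (by decide) (by decide)).elim
                · have L20 : 2 ≤ b 2 0 := by omega
                  rcases le_or_gt (b 2 0) 2 with hc | hc
                  · have U20 : b 2 0 ≤ 2 := hc
                    rcases le_or_gt (b 2 3) 0 with hc | hc
                    · have U23 : b 2 3 ≤ 0 := hc
                      have U32 : b 3 2 ≤ 0 := C.le_zero_symm (by decide) hc
                      rcases le_or_gt (b 3 1) 1 with hc | hc
                      · have U31 : b 3 1 ≤ 1 := hc
                        have e01 : b 0 1 = 1 := le_antisymm U01 L01
                        have e02 : b 0 2 = 1 := le_antisymm U02 L02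
                        have e03 : b 0 3 = 0 := le_antisymm U03 L03
                        have e10 : b 1 0 = 1 := le_antisymm U10 L10
                        have e12 : b 1 2 = 0 := le_antisymm U12 L12
                        have e13 : b 1 3 = 2 := le_antisymm U13 L13
                        have e20 : b 2 0 = 2 := le_antisymm U20 L20
                        have e21 : b 2 1 = 0 := le_antisymm U21 L21
                        have e23 : b 2 3 = 0 := le_antisymm U23 L23
                        have e30 : b 3 0 = 0 := le_antisymm U30 L30
                        have e31 : b 3 1 = 1 := le_antisymm U31 L31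
                        have e32 : b 3 2 = 0 := le_antisymm U32 L32
                        have row0 : 1 * T.m 1 + 1 * T.m 2 + 0 * T.m 3 = 2 * T.m 0 := by
                          have h := C.row 0
                          simp [Fin.sum_univ_four] at h
                          rw [e01, e02, e03] at h
                          linarith
                        have row1 : 1 * T.m 0 + 0 * T.m 2 + 2 * T.m 3 = 2 * T.m 1 := by
                          have h := C.row 1
                          simp [Fin.sum_univ_four] at h
                          rw [e10, e12, e13] at h
                          linarith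
                        have row2 : 2 * T.m 0 + 0 * T.m 1 + 0 * T.m 3 = 2 * T.m 2 := by
                          have h := C.row 2
                          simp [Fin.sum_univ_four] at h
                          rw [e20, e21, e23] at h
                          linarith
                        have row3 : 0 * T.m 0 + 1 * T.m 1 + 0 * T.m 2 = 2 * T.m 3 := by
                          have h := C.row 3
                          simp [Fin.sum_univ_four] at h
                          rw [e30, e31, e32] at h
                          linarith
                        have hb01 : T.a 0 1 = 1 * T.w 0 := by have h := C.hb 0 1 (by decide); rw [e01] at h; exact h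
                        have hb02 : T.a 0 2 = 1 * T.w 0 := by have h := C.hb 0 2 (by decide); rw [e02] at h; exact h
                        have hb03 : T.a 0 3 = 0 * T.w 0 := by have h := C.hb 0 3 (by decide); rw [e03] at h; exact h
                        have hb10 : T.a 1 0 = 1 * T.w 1 := by have h := C.hb 1 0 (by decide); rw [e10] at h; exact h
                        have hb12 : T.a 1 2 = 0 * T.w 1 := by have h := C.hb 1 2 (by decide); rw [e12] at h; exact h
                        have hb13 : T.a 1 3 = 2 * T.w 1 := by have h := C.hb 1 3 (by decide); rw [e13] at h; exact h
                        have hb20 : T.a 2 0 = 2 * T.w 2 := by have h := C.hb 2 0 (by decide); rw [e20] at h; exact h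
                        have hb21 : T.a 2 1 = 0 * T.w 2 := by have h := C.hb 2 1 (by decide); rw [e21] at h; exact h
                        have hb23 : T.a 2 3 = 0 * T.w 2 := by have h := C.hb 2 3 (by decide); rw [e23] at h; exact h
                        have hb30 : T.a 3 0 = 0 * T.w 3 := by have h := C.hb 3 0 (by decide); rw [e30] at h; exact h
                        have hb31 : T.a 3 1 = 1 * T.w 3 := by have h := C.hb 3 1 (by decide); rw [e31] at h; exact h
                        have hb32 : T.a 3 2 = 0 * T.w 3 := by have h := C.hb 3 2 (by decide); rw [e32] at h; exact h
                        have r01 : 1 * T.w 0 = 1 * T.w 1 := by have h := C.rel (by decide : (0 : Fin 4) ≠ 1); rw [e01, e10] at h; exact h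
                        have r02 : 1 * T.w 0 = 2 * T.w 2 := by have h := C.rel (by decide : (0 : Fin 4) ≠ 2); rw [e02, e20] at h; exact h
                        have r03 : 0 * T.w 0 = 0 * T.w 3 := by have h := C.rel (by decide : (0 : Fin 4) ≠ 3); rw [e03, e30] at h; exact h
                        have r12 : 0 * T.w 1 = 0 * T.w 2 := by have h := C.rel (by decide : (1 : Fin 4) ≠ 2); rw [e12, e21] at h; exact h
                        have r13 : 2 * T.w 1 = 1 * T.w 3 := by have h := C.rel (by decide : (1 : Fin 4) ≠ 3); rw [e13, e31] at h; exact h
                        have r23 : 0 * T.w 2 = 0 * T.w 3 := by have h := C.rel (by decide : (2 : Fin 4) ≠ 3); rw [e23, e32] at h; exact h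
                        have d0 := C.diag 0
                        have d1 := C.diag 1
                        have d2 := C.diag 2
                        have d3 := C.diag 3
                        obtain ⟨σ, s0, s1, s2, s3⟩ : ∃ σ : Equiv.Perm (Fin 4), σ 0 = 2 ∧ σ 1 = 0 ∧ σ 2 = 1 ∧ σ 3 = 3 :=
                          ⟨⟨![2, 0, 1, 3], ![1, 2, 0, 3], by decide, by decide⟩, rfl, rfl, rfl, rfl⟩
                        refine ⟨fun i => (C.hm2 i).1, σ, T.m 3, T.w 2, ?_⟩
                        rw [s0, s1, s2, s3]
                        refine Or.inr (Or.inl ?_)
                        refine ⟨by linarith, by linarith, by linarith, by linarith, by linarith, by linarith, by linarith, by linarith, by linarith, by linarith, by linarith, by linarith, by linarith, by linarith, by linarith, by linarith, by linarith, by linarith⟩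
                      · have L31 : 2 ≤ b 3 1 := by omega
                        exact (C.too_big ![![0, 1, 1, 0], ![1, 0, 0, 2], ![2, 0, 0, 0], ![0, 2, 0, 0]] (fun s t hst => by fin_cases s <;> fin_cases t <;> first | exact absurd rfl hst | assumption)
                          ![0, 1, 0, 1] (by decide) (by decide) (by decide) (by decide)).elim
                    · have L23 : 1 ≤ b 2 3 := by omega
                      have L32 : 1 ≤ b 3 2 := C.pos_symm (by decide) (by omega)
                      exact (C.too_big_whole ![![0, 1, 1, 0], ![1, 0, 0, 2], ![2, 0, 0, 1], ![0, 1, 1, 0]] (fun s t hst => by fin_cases s <;> fin_cases t <;> first | exact absurd rfl hst | assumption)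
                        ![1, 1, 1, 1] (by decide) (by decide) (by decide)).elim
                  · have L20 : 3 ≤ b 2 0 := by omega
                    exact (C.too_big ![![0, 1, 1, 0], ![1, 0, 0, 2], ![3, 0, 0, 0], ![0, 1, 0, 0]] (fun s t hst => by fin_cases s <;> fin_cases t <;> first | exact absurd rfl hst | assumption)
                      ![2, 1, 3, 0] (by decide) (by decide) (by decide) (by decide)).elim
              · have L13 : 3 ≤ b 1 3 := by omega
                exact (C.too_big ![![0, 1, 1, 0], ![1, 0, 0, 3], ![1, 0, 0, 0], ![0, 1, 0, 0]] (fun s t hst => by fin_cases s <;> fin_cases t <;> first | exact absurd rfl hst | assumption)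
                  ![1, 2, 0, 1] (by decide) (by decide) (by decide) (by decide)).elim
        · have L12 : 1 ≤ b 1 2 := by omega
          have L21 : 1 ≤ b 2 1 := C.pos_symm (by decide) (by omega)
          exact (C.too_big ![![0, 1, 1, 0], ![1, 0, 1, 0], ![1, 1, 0, 0], ![0, 0, 0, 0]] (fun s t hst => by fin_cases s <;> fin_cases t <;> first | exact absurd rfl hst | assumption)
            ![1, 1, 1, 0] (by decide) (by decide) (by decide) (by decide)).elim
      · have L10 : 2 ≤ b 1 0 := by omega
        rcases le_or_gt (b 1 0) 2 with hc | hc
        · have U10 : b 1 0 ≤ 2 := hc
          rcases le_or_gt (b 1 2) 0 with hc | hc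
          · have U12 : b 1 2 ≤ 0 := hc
            have U21 : b 2 1 ≤ 0 := C.le_zero_symm (by decide) hc
            rcases le_or_gt (b 1 3) 0 with hc | hc
            · have U13 : b 1 3 ≤ 0 := hc
              have U31 : b 3 1 ≤ 0 := C.le_zero_symm (by decide) hc
              rcases le_or_gt (b 2 0) 1 with hc | hc
              · have U20 : b 2 0 ≤ 1 := hc
                rcases le_or_gt (b 2 3) 0 with hc | hc
                · have U23 : b 2 3 ≤ 0 := hc
                  have U32 : b 3 2 ≤ 0 := C.le_zero_symm (by decide) hc
                  exact (C.too_small ![![0, 1, 1, 0], ![2, 0, 0, 0], ![1, 0, 0, 0], ![0, 0, 0, 0]] (fun s t hst => by fin_cases s <;> fin_cases t <;> first | exact absurd rfl hst | assumption)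
                    ![2, 2, 1, 1] (by decide) (by decide) (by decide)).elim
                · have L23 : 1 ≤ b 2 3 := by omega
                  have L32 : 1 ≤ b 3 2 := C.pos_symm (by decide) (by omega)
                  rcases le_or_gt (b 2 3) 1 with hc | hc
                  · have U23 : b 2 3 ≤ 1 := hc
                    rcases le_or_gt (b 3 2) 1 with hc | hc
                    · have U32 : b 3 2 ≤ 1 := hc
                      exact (C.too_small ![![0, 1, 1, 0], ![2, 0, 0, 0], ![1, 0, 0, 1], ![0, 0, 1, 0]] (fun s t hst => by fin_cases s <;> fin_cases t <;> first | exact absurd rfl hst | assumption)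
                        ![5, 5, 4, 2] (by decide) (by decide) (by decide)).elim
                    · have L32 : 2 ≤ b 3 2 := by omega
                      rcases le_or_gt (b 3 2) 2 with hc | hc
                      · have U32 : b 3 2 ≤ 2 := hc
                        have e01 : b 0 1 = 1 := le_antisymm U01 L01
                        have e02 : b 0 2 = 1 := le_antisymm U02 L02
                        have e03 : b 0 3 = 0 := le_antisymm U03 L03
                        have e10 : b 1 0 = 2 := le_antisymm U10 L10
                        have e12 : b 1 2 = 0 := le_antisymm U12 L12
                        have e13 : b 1 3 = 0 := le_antisymm U13 L13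
                        have e20 : b 2 0 = 1 := le_antisymm U20 L20
                        have e21 : b 2 1 = 0 := le_antisymm U21 L21
                        have e23 : b 2 3 = 1 := le_antisymm U23 L23
                        have e30 : b 3 0 = 0 := le_antisymm U30 L30
                        have e31 : b 3 1 = 0 := le_antisymm U31 L31
                        have e32 : b 3 2 = 2 := le_antisymm U32 L32
                        have row0 : 1 * T.m 1 + 1 * T.m 2 + 0 * T.m 3 = 2 * T.m 0 := by
                          have h := C.row 0
                          simp [Fin.sum_univ_four] at h
                          rw [e01, e02, e03] at h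
                          linarith
                        have row1 : 2 * T.m 0 + 0 * T.m 2 + 0 * T.m 3 = 2 * T.m 1 := by
                          have h := C.row 1
                          simp [Fin.sum_univ_four] at h
                          rw [e10, e12, e13] at h
                          linarith
                        have row2 : 1 * T.m 0 + 0 * T.m 1 + 1 * T.m 3 = 2 * T.m 2 := by
                          have h := C.row 2
                          simp [Fin.sum_univ_four] at h
                          rw [e20, e21, e23] at h
                          linarith
                        have row3 : 0 * T.m 0 + 0 * T.m 1 + 2 * T.m 2 = 2 * T.m 3 := by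
                          have h := C.row 3
                          simp [Fin.sum_univ_four] at h
                          rw [e30, e31, e32] at h
                          linarith
                        have hb01 : T.a 0 1 = 1 * T.w 0 := by have h := C.hb 0 1 (by decide); rw [e01] at h; exact h
                        have hb02 : T.a 0 2 = 1 * T.w 0 := by have h := C.hb 0 2 (by decide); rw [e02] at h; exact h
                        have hb03 : T.a 0 3 = 0 * T.w 0 := by have h := C.hb 0 3 (by decide); rw [e03] at h; exact h
                        have hb10 : T.a 1 0 = 2 * T.w 1 := by have h := C.hb 1 0 (by decide); rw [e10] at h; exact h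
                        have hb12 : T.a 1 2 = 0 * T.w 1 := by have h := C.hb 1 2 (by decide); rw [e12] at h; exact h
                        have hb13 : T.a 1 3 = 0 * T.w 1 := by have h := C.hb 1 3 (by decide); rw [e13] at h; exact h
                        have hb20 : T.a 2 0 = 1 * T.w 2 := by have h := C.hb 2 0 (by decide); rw [e20] at h; exact h
                        have hb21 : T.a 2 1 = 0 * T.w 2 := by have h := C.hb 2 1 (by decide); rw [e21] at h; exact h
                        have hb23 : T.a 2 3 = 1 * T.w 2 := by have h := C.hb 2 3 (by decide); rw [e23] at h; exact h
                        have hb30 : T.a 3 0 = 0 * T.w 3 := by have h := C.hb 3 0 (by decide); rw [e30] at h; exact h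
                        have hb31 : T.a 3 1 = 0 * T.w 3 := by have h := C.hb 3 1 (by decide); rw [e31] at h; exact h
                        have hb32 : T.a 3 2 = 2 * T.w 3 := by have h := C.hb 3 2 (by decide); rw [e32] at h; exact h
                        have r01 : 1 * T.w 0 = 2 * T.w 1 := by have h := C.rel (by decide : (0 : Fin 4) ≠ 1); rw [e01, e10] at h; exact h
                        have r02 : 1 * T.w 0 = 1 * T.w 2 := by have h := C.rel (by decide : (0 : Fin 4) ≠ 2); rw [e02, e20] at h; exact h
                        have r03 : 0 * T.w 0 = 0 * T.w 3 := by have h := C.rel (by decide : (0 : Fin 4) ≠ 3); rw [e03, e30] at h; exact h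
                        have r12 : 0 * T.w 1 = 0 * T.w 2 := by have h := C.rel (by decide : (1 : Fin 4) ≠ 2); rw [e12, e21] at h; exact h
                        have r13 : 0 * T.w 1 = 0 * T.w 3 := by have h := C.rel (by decide : (1 : Fin 4) ≠ 3); rw [e13, e31] at h; exact h
                        have r23 : 1 * T.w 2 = 2 * T.w 3 := by have h := C.rel (by decide : (2 : Fin 4) ≠ 3); rw [e23, e32] at h; exact h
                        have d0 := C.diag 0
                        have d1 := C.diag 1
                        have d2 := C.diag 2
                        have d3 := C.diag 3
                        obtain ⟨σ, s0, s1, s2, s3⟩ : ∃ σ : Equiv.Perm (Fin 4), σ 0 = 1 ∧ σ 1 = 0 ∧ σ 2 = 2 ∧ σ 3 = 3 :=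
                          ⟨⟨![1, 0, 2, 3], ![1, 0, 2, 3], by decide, by decide⟩, rfl, rfl, rfl, rfl⟩
                        refine ⟨fun i => (C.hm2 i).1, σ, T.m 1, T.w 1, ?_⟩
                        rw [s0, s1, s2, s3]
                        refine Or.inr (Or.inr (Or.inl ?_))
                        refine ⟨by linarith, by linarith, by linarith, by linarith, by linarith, by linarith, by linarith, by linarith, by linarith, by linarith, by linarith, by linarith, by linarith, by linarith, by linarith, by linarith, by linarith, by linarith⟩
                      · have L32 : 3 ≤ b 3 2 := by omega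
                        exact (C.too_big ![![0, 1, 1, 0], ![2, 0, 0, 0], ![1, 0, 0, 1], ![0, 0, 3, 0]] (fun s t hst => by fin_cases s <;> fin_cases t <;> first | exact absurd rfl hst | assumption)
                          ![1, 0, 2, 3] (by decide) (by decide) (by decide) (by decide)).elim
                  · have L23 : 2 ≤ b 2 3 := by omega
                    rcases le_or_gt (b 2 3) 2 with hc | hc
                    · have U23 : b 2 3 ≤ 2 := hc
                      rcases le_or_gt (b 3 2) 1 with hc | hc
                      · have U32 : b 3 2 ≤ 1 := hc
                        have e01 : b 0 1 = 1 := le_antisymm U01 L01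
                        have e02 : b 0 2 = 1 := le_antisymm U02 L02
                        have e03 : b 0 3 = 0 := le_antisymm U03 L03
                        have e10 : b 1 0 = 2 := le_antisymm U10 L10
                        have e12 : b 1 2 = 0 := le_antisymm U12 L12
                        have e13 : b 1 3 = 0 := le_antisymm U13 L13
                        have e20 : b 2 0 = 1 := le_antisymm U20 L20
                        have e21 : b 2 1 = 0 := le_antisymm U21 L21
                        have e23 : b 2 3 = 2 := le_antisymm U23 L23
                        have e30 : b 3 0 = 0 := le_antisymm U30 L30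
                        have e31 : b 3 1 = 0 := le_antisymm U31 L31
                        have e32 : b 3 2 = 1 := le_antisymm U32 L32
                        have row0 : 1 * T.m 1 + 1 * T.m 2 + 0 * T.m 3 = 2 * T.m 0 := by
                          have h := C.row 0
                          simp [Fin.sum_univ_four] at h
                          rw [e01, e02, e03] at h
                          linarith
                        have row1 : 2 * T.m 0 + 0 * T.m 2 + 0 * T.m 3 = 2 * T.m 1 := by
                          have h := C.row 1
                          simp [Fin.sum_univ_four] at h
                          rw [e10, e12, e13] at h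
                          linarith
                        have row2 : 1 * T.m 0 + 0 * T.m 1 + 2 * T.m 3 = 2 * T.m 2 := by
                          have h := C.row 2
                          simp [Fin.sum_univ_four] at h
                          rw [e20, e21, e23] at h
                          linarith
                        have row3 : 0 * T.m 0 + 0 * T.m 1 + 1 * T.m 2 = 2 * T.m 3 := by
                          have h := C.row 3
                          simp [Fin.sum_univ_four] at h
                          rw [e30, e31, e32] at h
                          linarith
                        have hb01 : T.a 0 1 = 1 * T.w 0 := by have h := C.hb 0 1 (by decide); rw [e01] at h; exact h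
                        have hb02 : T.a 0 2 = 1 * T.w 0 := by have h := C.hb 0 2 (by decide); rw [e02] at h; exact h
                        have hb03 : T.a 0 3 = 0 * T.w 0 := by have h := C.hb 0 3 (by decide); rw [e03] at h; exact h
                        have hb10 : T.a 1 0 = 2 * T.w 1 := by have h := C.hb 1 0 (by decide); rw [e10] at h; exact h
                        have hb12 : T.a 1 2 = 0 * T.w 1 := by have h := C.hb 1 2 (by decide); rw [e12] at h; exact h
                        have hb13 : T.a 1 3 = 0 * T.w 1 := by have h := C.hb 1 3 (by decide); rw [e13] at h; exact h
                        have hb20 : T.a 2 0 = 1 * T.w 2 := by have h := C.hb 2 0 (by decide); rw [e20] at h; exact h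
                        have hb21 : T.a 2 1 = 0 * T.w 2 := by have h := C.hb 2 1 (by decide); rw [e21] at h; exact h
                        have hb23 : T.a 2 3 = 2 * T.w 2 := by have h := C.hb 2 3 (by decide); rw [e23] at h; exact h
                        have hb30 : T.a 3 0 = 0 * T.w 3 := by have h := C.hb 3 0 (by decide); rw [e30] at h; exact h
                        have hb31 : T.a 3 1 = 0 * T.w 3 := by have h := C.hb 3 1 (by decide); rw [e31] at h; exact h
                        have hb32 : T.a 3 2 = 1 * T.w 3 := by have h := C.hb 3 2 (by decide); rw [e32] at h; exact h
                        have r01 : 1 * T.w 0 = 2 * T.w 1 := by have h := C.rel (by decide : (0 : Fin 4) ≠ 1); rw [e01, e10] at h; exact h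
                        have r02 : 1 * T.w 0 = 1 * T.w 2 := by have h := C.rel (by decide : (0 : Fin 4) ≠ 2); rw [e02, e20] at h; exact h
                        have r03 : 0 * T.w 0 = 0 * T.w 3 := by have h := C.rel (by decide : (0 : Fin 4) ≠ 3); rw [e03, e30] at h; exact h
                        have r12 : 0 * T.w 1 = 0 * T.w 2 := by have h := C.rel (by decide : (1 : Fin 4) ≠ 2); rw [e12, e21] at h; exact h
                        have r13 : 0 * T.w 1 = 0 * T.w 3 := by have h := C.rel (by decide : (1 : Fin 4) ≠ 3); rw [e13, e31] at h; exact h
                        have r23 : 2 * T.w 2 = 1 * T.w 3 := by have h := C.rel (by decide : (2 : Fin 4) ≠ 3); rw [e23, e32] at h; exact h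
                        have d0 := C.diag 0
                        have d1 := C.diag 1
                        have d2 := C.diag 2
                        have d3 := C.diag 3
                        obtain ⟨σ, s0, s1, s2, s3⟩ : ∃ σ : Equiv.Perm (Fin 4), σ 0 = 1 ∧ σ 1 = 0 ∧ σ 2 = 2 ∧ σ 3 = 3 :=
                          ⟨⟨![1, 0, 2, 3], ![1, 0, 2, 3], by decide, by decide⟩, rfl, rfl, rfl, rfl⟩
                        refine ⟨fun i => (C.hm2 i).1, σ, T.m 3, T.w 1, ?_⟩
                        rw [s0, s1, s2, s3]
                        refine Or.inr (Or.inl ?_)
                        refine ⟨by linarith, by linarith, by linarith, by linarith, by linarith, by linarith, by linarith, by linarith, by linarith, by linarith, by linarith, by linarith, by linarith, by linarith, by linarith, by linarith, by linarith, by linarith⟩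
                      · have L32 : 2 ≤ b 3 2 := by omega
                        exact (C.too_big ![![0, 1, 1, 0], ![2, 0, 0, 0], ![1, 0, 0, 2], ![0, 0, 2, 0]] (fun s t hst => by fin_cases s <;> fin_cases t <;> first | exact absurd rfl hst | assumption)
                          ![0, 0, 1, 1] (by decide) (by decide) (by decide) (by decide)).elim
                    · have L23 : 3 ≤ b 2 3 := by omega
                      exact (C.too_big ![![0, 1, 1, 0], ![2, 0, 0, 0], ![1, 0, 0, 3], ![0, 0, 1, 0]] (fun s t hst => by fin_cases s <;> fin_cases t <;> first | exact absurd rfl hst | assumption)
                        ![1, 0, 2, 1] (by decide) (by decide) (by decide) (by decide)).elim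
              · have L20 : 2 ≤ b 2 0 := by omega
                exact (C.too_big ![![0, 1, 1, 0], ![2, 0, 0, 0], ![2, 0, 0, 0], ![0, 0, 0, 0]] (fun s t hst => by fin_cases s <;> fin_cases t <;> first | exact absurd rfl hst | assumption)
                  ![1, 1, 1, 0] (by decide) (by decide) (by decide) (by decide)).elim
            · have L13 : 1 ≤ b 1 3 := by omega
              have L31 : 1 ≤ b 3 1 := C.pos_symm (by decide) (by omega)
              rcases le_or_gt (b 1 3) 1 with hc | hc
              · have U13 : b 1 3 ≤ 1 := hc
                rcases le_or_gt (b 2 0) 1 with hc | hc
                · have U20 : b 2 0 ≤ 1 := hc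
                  rcases le_or_gt (b 2 3) 0 with hc | hc
                  · have U23 : b 2 3 ≤ 0 := hc
                    have U32 : b 3 2 ≤ 0 := C.le_zero_symm (by decide) hc
                    rcases le_or_gt (b 3 1) 1 with hc | hc
                    · have U31 : b 3 1 ≤ 1 := hc
                      exact (C.too_small ![![0, 1, 1, 0], ![2, 0, 0, 1], ![1, 0, 0, 0], ![0, 1, 0, 0]] (fun s t hst => by fin_cases s <;> fin_cases t <;> first | exact absurd rfl hst | assumption)
                        ![6, 8, 3, 4] (by decide) (by decide) (by decide)).elim
                    · have L31 : 2 ≤ b 3 1 := by omega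
                      exact (C.too_big ![![0, 1, 1, 0], ![2, 0, 0, 1], ![1, 0, 0, 0], ![0, 2, 0, 0]] (fun s t hst => by fin_cases s <;> fin_cases t <;> first | exact absurd rfl hst | assumption)
                        ![1, 2, 0, 2] (by decide) (by decide) (by decide) (by decide)).elim
                  · have L23 : 1 ≤ b 2 3 := by omega
                    have L32 : 1 ≤ b 3 2 := C.pos_symm (by decide) (by omega)
                    exact (C.too_big_whole ![![0, 1, 1, 0], ![2, 0, 0, 1], ![1, 0, 0, 1], ![0, 1, 1, 0]] (fun s t hst => by fin_cases s <;> fin_cases t <;> first | exact absurd rfl hst | assumption)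
                      ![2, 3, 2, 2] (by decide) (by decide) (by decide)).elim
                · have L20 : 2 ≤ b 2 0 := by omega
                  exact (C.too_big ![![0, 1, 1, 0], ![2, 0, 0, 1], ![2, 0, 0, 0], ![0, 1, 0, 0]] (fun s t hst => by fin_cases s <;> fin_cases t <;> first | exact absurd rfl hst | assumption)
                    ![1, 1, 1, 0] (by decide) (by decide) (by decide) (by decide)).elim
              · have L13 : 2 ≤ b 1 3 := by omega
                exact (C.too_big ![![0, 1, 1, 0], ![2, 0, 0, 2], ![1, 0, 0, 0], ![0, 1, 0, 0]] (fun s t hst => by fin_cases s <;> fin_cases t <;> first | exact absurd rfl hst | assumption)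
                  ![1, 2, 0, 1] (by decide) (by decide) (by decide) (by decide)).elim
          · have L12 : 1 ≤ b 1 2 := by omega
            have L21 : 1 ≤ b 2 1 := C.pos_symm (by decide) (by omega)
            exact (C.too_big ![![0, 1, 1, 0], ![2, 0, 1, 0], ![1, 1, 0, 0], ![0, 0, 0, 0]] (fun s t hst => by fin_cases s <;> fin_cases t <;> first | exact absurd rfl hst | assumption)
              ![1, 1, 1, 0] (by decide) (by decide) (by decide) (by decide)).elim
        · have L10 : 3 ≤ b 1 0 := by omega
          exact (C.too_big ![![0, 1, 1, 0], ![3, 0, 0, 0], ![1, 0, 0, 0], ![0, 0, 0, 0]] (fun s t hst => by fin_cases s <;> fin_cases t <;> first | exact absurd rfl hst | assumption)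
            ![2, 3, 1, 0] (by decide) (by decide) (by decide) (by decide)).elim
    · have L03 : 1 ≤ b 0 3 := by omega
      have L30 : 1 ≤ b 3 0 := C.pos_symm (by decide) (by omega)
      rcases le_or_gt (b 0 3) 1 with hc | hc
      · have U03 : b 0 3 ≤ 1 := hc
        rcases le_or_gt (b 1 0) 1 with hc | hc
        · have U10 : b 1 0 ≤ 1 := hc
          rcases le_or_gt (b 1 2) 0 with hc | hc
          · have U12 : b 1 2 ≤ 0 := hc
            have U21 : b 2 1 ≤ 0 := C.le_zero_symm (by decide) hc
            rcases le_or_gt (b 1 3) 0 with hc | hc
            · have U13 : b 1 3 ≤ 0 := hc
              have U31 : b 3 1 ≤ 0 := C.le_zero_symm (by decide) hc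
              rcases le_or_gt (b 2 0) 1 with hc | hc
              · have U20 : b 2 0 ≤ 1 := hc
                rcases le_or_gt (b 2 3) 0 with hc | hc
                · have U23 : b 2 3 ≤ 0 := hc
                  have U32 : b 3 2 ≤ 0 := C.le_zero_symm (by decide) hc
                  rcases le_or_gt (b 3 0) 1 with hc | hc
                  · have U30 : b 3 0 ≤ 1 := hc
                    exact (C.too_small ![![0, 1, 1, 1], ![1, 0, 0, 0], ![1, 0, 0, 0], ![1, 0, 0, 0]] (fun s t hst => by fin_cases s <;> fin_cases t <;> first | exact absurd rfl hst | assumption)
                      ![2, 1, 1, 1] (by decide) (by decide) (by decide)).elim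
                  · have L30 : 2 ≤ b 3 0 := by omega
                    rcases le_or_gt (b 3 0) 2 with hc | hc
                    · have U30 : b 3 0 ≤ 2 := hc
                      have e01 : b 0 1 = 1 := le_antisymm U01 L01
                      have e02 : b 0 2 = 1 := le_antisymm U02 L02
                      have e03 : b 0 3 = 1 := le_antisymm U03 L03
                      have e10 : b 1 0 = 1 := le_antisymm U10 L10
                      have e12 : b 1 2 = 0 := le_antisymm U12 L12
                      have e13 : b 1 3 = 0 := le_antisymm U13 L13
                      have e20 : b 2 0 = 1 := le_antisymm U20 L20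
                      have e21 : b 2 1 = 0 := le_antisymm U21 L21
                      have e23 : b 2 3 = 0 := le_antisymm U23 L23
                      have e30 : b 3 0 = 2 := le_antisymm U30 L30
                      have e31 : b 3 1 = 0 := le_antisymm U31 L31
                      have e32 : b 3 2 = 0 := le_antisymm U32 L32
                      have row0 : 1 * T.m 1 + 1 * T.m 2 + 1 * T.m 3 = 2 * T.m 0 := by
                        have h := C.row 0
                        simp [Fin.sum_univ_four] at h
                        rw [e01, e02, e03] at h
                        linarith
                      have row1 : 1 * T.m 0 + 0 * T.m 2 + 0 * T.m 3 = 2 * T.m 1 := by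
                        have h := C.row 1
                        simp [Fin.sum_univ_four] at h
                        rw [e10, e12, e13] at h
                        linarith
                      have row2 : 1 * T.m 0 + 0 * T.m 1 + 0 * T.m 3 = 2 * T.m 2 := by
                        have h := C.row 2
                        simp [Fin.sum_univ_four] at h
                        rw [e20, e21, e23] at h
                        linarith
                      have row3 : 2 * T.m 0 + 0 * T.m 1 + 0 * T.m 2 = 2 * T.m 3 := by
                        have h := C.row 3
                        simp [Fin.sum_univ_four] at h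
                        rw [e30, e31, e32] at h
                        linarith
                      have hb01 : T.a 0 1 = 1 * T.w 0 := by have h := C.hb 0 1 (by decide); rw [e01] at h; exact h
                      have hb02 : T.a 0 2 = 1 * T.w 0 := by have h := C.hb 0 2 (by decide); rw [e02] at h; exact h
                      have hb03 : T.a 0 3 = 1 * T.w 0 := by have h := C.hb 0 3 (by decide); rw [e03] at h; exact h
                      have hb10 : T.a 1 0 = 1 * T.w 1 := by have h := C.hb 1 0 (by decide); rw [e10] at h; exact h
                      have hb12 : T.a 1 2 = 0 * T.w 1 := by have h := C.hb 1 2 (by decide); rw [e12] at h; exact h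
                      have hb13 : T.a 1 3 = 0 * T.w 1 := by have h := C.hb 1 3 (by decide); rw [e13] at h; exact h
                      have hb20 : T.a 2 0 = 1 * T.w 2 := by have h := C.hb 2 0 (by decide); rw [e20] at h; exact h
                      have hb21 : T.a 2 1 = 0 * T.w 2 := by have h := C.hb 2 1 (by decide); rw [e21] at h; exact h
                      have hb23 : T.a 2 3 = 0 * T.w 2 := by have h := C.hb 2 3 (by decide); rw [e23] at h; exact h
                      have hb30 : T.a 3 0 = 2 * T.w 3 := by have h := C.hb 3 0 (by decide); rw [e30] at h; exact h
                      have hb31 : T.a 3 1 = 0 * T.w 3 := by have h := C.hb 3 1 (by decide); rw [e31] at h; exact h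
                      have hb32 : T.a 3 2 = 0 * T.w 3 := by have h := C.hb 3 2 (by decide); rw [e32] at h; exact h
                      have r01 : 1 * T.w 0 = 1 * T.w 1 := by have h := C.rel (by decide : (0 : Fin 4) ≠ 1); rw [e01, e10] at h; exact h
                      have r02 : 1 * T.w 0 = 1 * T.w 2 := by have h := C.rel (by decide : (0 : Fin 4) ≠ 2); rw [e02, e20] at h; exact h
                      have r03 : 1 * T.w 0 = 2 * T.w 3 := by have h := C.rel (by decide : (0 : Fin 4) ≠ 3); rw [e03, e30] at h; exact h
                      have r12 : 0 * T.w 1 = 0 * T.w 2 := by have h := C.rel (by decide : (1 : Fin 4) ≠ 2); rw [e12, e21] at h; exact h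
                      have r13 : 0 * T.w 1 = 0 * T.w 3 := by have h := C.rel (by decide : (1 : Fin 4) ≠ 3); rw [e13, e31] at h; exact h
                      have r23 : 0 * T.w 2 = 0 * T.w 3 := by have h := C.rel (by decide : (2 : Fin 4) ≠ 3); rw [e23, e32] at h; exact h
                      have d0 := C.diag 0
                      have d1 := C.diag 1
                      have d2 := C.diag 2
                      have d3 := C.diag 3
                      obtain ⟨σ, s0, s1, s2, s3⟩ : ∃ σ : Equiv.Perm (Fin 4), σ 0 = 0 ∧ σ 1 = 1 ∧ σ 2 = 2 ∧ σ 3 = 3 :=
                        ⟨⟨![0, 1, 2, 3], ![0, 1, 2, 3], by decide, by decide⟩, rfl, rfl, rfl, rfl⟩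
                      refine ⟨fun i => (C.hm2 i).1, σ, T.m 1, T.w 3, ?_⟩
                      rw [s0, s1, s2, s3]
                      refine Or.inr (Or.inr (Or.inr (Or.inr (Or.inr (?_)))))
                      refine ⟨by linarith, by linarith, by linarith, by linarith, by linarith, by linarith, by linarith, by linarith, by linarith, by linarith, by linarith, by linarith, by linarith, by linarith, by linarith, by linarith, by linarith, by linarith⟩
                    · have L30 : 3 ≤ b 3 0 := by omega
                      exact (C.too_big ![![0, 1, 1, 1], ![1, 0, 0, 0], ![1, 0, 0, 0], ![3, 0, 0, 0]] (fun s t hst => by fin_cases s <;> fin_cases t <;> first | exact absurd rfl hst | assumption)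
                        ![2, 0, 1, 3] (by decide) (by decide) (by decide) (by decide)).elim
                · have L23 : 1 ≤ b 2 3 := by omega
                  have L32 : 1 ≤ b 3 2 := C.pos_symm (by decide) (by omega)
                  exact (C.too_big ![![0, 1, 1, 1], ![1, 0, 0, 0], ![1, 0, 0, 1], ![1, 0, 1, 0]] (fun s t hst => by fin_cases s <;> fin_cases t <;> first | exact absurd rfl hst | assumption)
                    ![1, 0, 1, 1] (by decide) (by decide) (by decide) (by decide)).elim
              · have L20 : 2 ≤ b 2 0 := by omega
                rcases le_or_gt (b 2 0) 2 with hc | hc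
                · have U20 : b 2 0 ≤ 2 := hc
                  rcases le_or_gt (b 2 3) 0 with hc | hc
                  · have U23 : b 2 3 ≤ 0 := hc
                    have U32 : b 3 2 ≤ 0 := C.le_zero_symm (by decide) hc
                    rcases le_or_gt (b 3 0) 1 with hc | hc
                    · have U30 : b 3 0 ≤ 1 := hc
                      have e01 : b 0 1 = 1 := le_antisymm U01 L01
                      have e02 : b 0 2 = 1 := le_antisymm U02 L02
                      have e03 : b 0 3 = 1 := le_antisymm U03 L03
                      have e10 : b 1 0 = 1 := le_antisymm U10 L10
                      have e12 : b 1 2 = 0 := le_antisymm U12 L12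
                      have e13 : b 1 3 = 0 := le_antisymm U13 L13
                      have e20 : b 2 0 = 2 := le_antisymm U20 L20
                      have e21 : b 2 1 = 0 := le_antisymm U21 L21
                      have e23 : b 2 3 = 0 := le_antisymm U23 L23
                      have e30 : b 3 0 = 1 := le_antisymm U30 L30
                      have e31 : b 3 1 = 0 := le_antisymm U31 L31
                      have e32 : b 3 2 = 0 := le_antisymm U32 L32
                      have row0 : 1 * T.m 1 + 1 * T.m 2 + 1 * T.m 3 = 2 * T.m 0 := by
                        have h := C.row 0
                        simp [Fin.sum_univ_four] at h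
                        rw [e01, e02, e03] at h
                        linarith
                      have row1 : 1 * T.m 0 + 0 * T.m 2 + 0 * T.m 3 = 2 * T.m 1 := by
                        have h := C.row 1
                        simp [Fin.sum_univ_four] at h
                        rw [e10, e12, e13] at h
                        linarith
                      have row2 : 2 * T.m 0 + 0 * T.m 1 + 0 * T.m 3 = 2 * T.m 2 := by
                        have h := C.row 2
                        simp [Fin.sum_univ_four] at h
                        rw [e20, e21, e23] at h
                        linarith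
                      have row3 : 1 * T.m 0 + 0 * T.m 1 + 0 * T.m 2 = 2 * T.m 3 := by
                        have h := C.row 3
                        simp [Fin.sum_univ_four] at h
                        rw [e30, e31, e32] at h
                        linarith
                      have hb01 : T.a 0 1 = 1 * T.w 0 := by have h := C.hb 0 1 (by decide); rw [e01] at h; exact h
                      have hb02 : T.a 0 2 = 1 * T.w 0 := by have h := C.hb 0 2 (by decide); rw [e02] at h; exact h
                      have hb03 : T.a 0 3 = 1 * T.w 0 := by have h := C.hb 0 3 (by decide); rw [e03] at h; exact h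
                      have hb10 : T.a 1 0 = 1 * T.w 1 := by have h := C.hb 1 0 (by decide); rw [e10] at h; exact h
                      have hb12 : T.a 1 2 = 0 * T.w 1 := by have h := C.hb 1 2 (by decide); rw [e12] at h; exact h
                      have hb13 : T.a 1 3 = 0 * T.w 1 := by have h := C.hb 1 3 (by decide); rw [e13] at h; exact h
                      have hb20 : T.a 2 0 = 2 * T.w 2 := by have h := C.hb 2 0 (by decide); rw [e20] at h; exact h
                      have hb21 : T.a 2 1 = 0 * T.w 2 := by have h := C.hb 2 1 (by decide); rw [e21] at h; exact h
                      have hb23 : T.a 2 3 = 0 * T.w 2 := by have h := C.hb 2 3 (by decide); rw [e23] at h; exact h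
                      have hb30 : T.a 3 0 = 1 * T.w 3 := by have h := C.hb 3 0 (by decide); rw [e30] at h; exact h
                      have hb31 : T.a 3 1 = 0 * T.w 3 := by have h := C.hb 3 1 (by decide); rw [e31] at h; exact h
                      have hb32 : T.a 3 2 = 0 * T.w 3 := by have h := C.hb 3 2 (by decide); rw [e32] at h; exact h
                      have r01 : 1 * T.w 0 = 1 * T.w 1 := by have h := C.rel (by decide : (0 : Fin 4) ≠ 1); rw [e01, e10] at h; exact h
                      have r02 : 1 * T.w 0 = 2 * T.w 2 := by have h := C.rel (by decide : (0 : Fin 4) ≠ 2); rw [e02, e20] at h; exact h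
                      have r03 : 1 * T.w 0 = 1 * T.w 3 := by have h := C.rel (by decide : (0 : Fin 4) ≠ 3); rw [e03, e30] at h; exact h
                      have r12 : 0 * T.w 1 = 0 * T.w 2 := by have h := C.rel (by decide : (1 : Fin 4) ≠ 2); rw [e12, e21] at h; exact h
                      have r13 : 0 * T.w 1 = 0 * T.w 3 := by have h := C.rel (by decide : (1 : Fin 4) ≠ 3); rw [e13, e31] at h; exact h
                      have r23 : 0 * T.w 2 = 0 * T.w 3 := by have h := C.rel (by decide : (2 : Fin 4) ≠ 3); rw [e23, e32] at h; exact h
                      have d0 := C.diag 0
                      have d1 := C.diag 1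
                      have d2 := C.diag 2
                      have d3 := C.diag 3
                      obtain ⟨σ, s0, s1, s2, s3⟩ : ∃ σ : Equiv.Perm (Fin 4), σ 0 = 0 ∧ σ 1 = 1 ∧ σ 2 = 3 ∧ σ 3 = 2 :=
                        ⟨⟨![0, 1, 3, 2], ![0, 1, 3, 2], by decide, by decide⟩, rfl, rfl, rfl, rfl⟩
                      refine ⟨fun i => (C.hm2 i).1, σ, T.m 1, T.w 2, ?_⟩
                      rw [s0, s1, s2, s3]
                      refine Or.inr (Or.inr (Or.inr (Or.inr (Or.inr (?_)))))
                      refine ⟨by linarith, by linarith, by linarith, by linarith, by linarith, by linarith, by linarith, by linarith, by linarith, by linarith, by linarith, by linarith, by linarith, by linarith, by linarith, by linarith, by linarith, by linarith⟩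
                    · have L30 : 2 ≤ b 3 0 := by omega
                      exact (C.too_big ![![0, 1, 1, 1], ![1, 0, 0, 0], ![2, 0, 0, 0], ![2, 0, 0, 0]] (fun s t hst => by fin_cases s <;> fin_cases t <;> first | exact absurd rfl hst | assumption)
                        ![1, 0, 1, 1] (by decide) (by decide) (by decide) (by decide)).elim
                  · have L23 : 1 ≤ b 2 3 := by omega
                    have L32 : 1 ≤ b 3 2 := C.pos_symm (by decide) (by omega)
                    exact (C.too_big ![![0, 1, 1, 1], ![1, 0, 0, 0], ![2, 0, 0, 1], ![1, 0, 1, 0]] (fun s t hst => by fin_cases s <;> fin_cases t <;> first | exact absurd rfl hst | assumption)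
                      ![1, 0, 1, 1] (by decide) (by decide) (by decide) (by decide)).elim
                · have L20 : 3 ≤ b 2 0 := by omega
                  exact (C.too_big ![![0, 1, 1, 1], ![1, 0, 0, 0], ![3, 0, 0, 0], ![1, 0, 0, 0]] (fun s t hst => by fin_cases s <;> fin_cases t <;> first | exact absurd rfl hst | assumption)
                    ![2, 0, 3, 1] (by decide) (by decide) (by decide) (by decide)).elim
            · have L13 : 1 ≤ b 1 3 := by omega
              have L31 : 1 ≤ b 3 1 := C.pos_symm (by decide) (by omega)
              exact (C.too_big ![![0, 1, 1, 1], ![1, 0, 0, 1], ![1, 0, 0, 0], ![1, 1, 0, 0]] (fun s t hst => by fin_cases s <;> fin_cases t <;> first | exact absurd rfl hst | assumption)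
                ![1, 1, 0, 1] (by decide) (by decide) (by decide) (by decide)).elim
          · have L12 : 1 ≤ b 1 2 := by omega
            have L21 : 1 ≤ b 2 1 := C.pos_symm (by decide) (by omega)
            exact (C.too_big ![![0, 1, 1, 1], ![1, 0, 1, 0], ![1, 1, 0, 0], ![1, 0, 0, 0]] (fun s t hst => by fin_cases s <;> fin_cases t <;> first | exact absurd rfl hst | assumption)
              ![1, 1, 1, 0] (by decide) (by decide) (by decide) (by decide)).elim
        · have L10 : 2 ≤ b 1 0 := by omega
          rcases le_or_gt (b 1 0) 2 with hc | hc
          · have U10 : b 1 0 ≤ 2 := hc
            rcases le_or_gt (b 1 2) 0 with hc | hc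
            · have U12 : b 1 2 ≤ 0 := hc
              have U21 : b 2 1 ≤ 0 := C.le_zero_symm (by decide) hc
              rcases le_or_gt (b 1 3) 0 with hc | hc
              · have U13 : b 1 3 ≤ 0 := hc
                have U31 : b 3 1 ≤ 0 := C.le_zero_symm (by decide) hc
                rcases le_or_gt (b 2 0) 1 with hc | hc
                · have U20 : b 2 0 ≤ 1 := hc
                  rcases le_or_gt (b 2 3) 0 with hc | hc
                  · have U23 : b 2 3 ≤ 0 := hc
                    have U32 : b 3 2 ≤ 0 := C.le_zero_symm (by decide) hc
                    rcases le_or_gt (b 3 0) 1 with hc | hc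
                    · have U30 : b 3 0 ≤ 1 := hc
                      have e01 : b 0 1 = 1 := le_antisymm U01 L01
                      have e02 : b 0 2 = 1 := le_antisymm U02 L02
                      have e03 : b 0 3 = 1 := le_antisymm U03 L03
                      have e10 : b 1 0 = 2 := le_antisymm U10 L10
                      have e12 : b 1 2 = 0 := le_antisymm U12 L12
                      have e13 : b 1 3 = 0 := le_antisymm U13 L13
                      have e20 : b 2 0 = 1 := le_antisymm U20 L20
                      have e21 : b 2 1 = 0 := le_antisymm U21 L21
                      have e23 : b 2 3 = 0 := le_antisymm U23 L23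
                      have e30 : b 3 0 = 1 := le_antisymm U30 L30
                      have e31 : b 3 1 = 0 := le_antisymm U31 L31
                      have e32 : b 3 2 = 0 := le_antisymm U32 L32
                      have row0 : 1 * T.m 1 + 1 * T.m 2 + 1 * T.m 3 = 2 * T.m 0 := by
                        have h := C.row 0
                        simp [Fin.sum_univ_four] at h
                        rw [e01, e02, e03] at h
                        linarith
                      have row1 : 2 * T.m 0 + 0 * T.m 2 + 0 * T.m 3 = 2 * T.m 1 := by
                        have h := C.row 1
                        simp [Fin.sum_univ_four] at h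
                        rw [e10, e12, e13] at h
                        linarith
                      have row2 : 1 * T.m 0 + 0 * T.m 1 + 0 * T.m 3 = 2 * T.m 2 := by
                        have h := C.row 2
                        simp [Fin.sum_univ_four] at h
                        rw [e20, e21, e23] at h
                        linarith
                      have row3 : 1 * T.m 0 + 0 * T.m 1 + 0 * T.m 2 = 2 * T.m 3 := by
                        have h := C.row 3
                        simp [Fin.sum_univ_four] at h
                        rw [e30, e31, e32] at h
                        linarith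
                      have hb01 : T.a 0 1 = 1 * T.w 0 := by have h := C.hb 0 1 (by decide); rw [e01] at h; exact h
                      have hb02 : T.a 0 2 = 1 * T.w 0 := by have h := C.hb 0 2 (by decide); rw [e02] at h; exact h
                      have hb03 : T.a 0 3 = 1 * T.w 0 := by have h := C.hb 0 3 (by decide); rw [e03] at h; exact h
                      have hb10 : T.a 1 0 = 2 * T.w 1 := by have h := C.hb 1 0 (by decide); rw [e10] at h; exact h
                      have hb12 : T.a 1 2 = 0 * T.w 1 := by have h := C.hb 1 2 (by decide); rw [e12] at h; exact h
                      have hb13 : T.a 1 3 = 0 * T.w 1 := by have h := C.hb 1 3 (by decide); rw [e13] at h; exact h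
                      have hb20 : T.a 2 0 = 1 * T.w 2 := by have h := C.hb 2 0 (by decide); rw [e20] at h; exact h
                      have hb21 : T.a 2 1 = 0 * T.w 2 := by have h := C.hb 2 1 (by decide); rw [e21] at h; exact h
                      have hb23 : T.a 2 3 = 0 * T.w 2 := by have h := C.hb 2 3 (by decide); rw [e23] at h; exact h
                      have hb30 : T.a 3 0 = 1 * T.w 3 := by have h := C.hb 3 0 (by decide); rw [e30] at h; exact h
                      have hb31 : T.a 3 1 = 0 * T.w 3 := by have h := C.hb 3 1 (by decide); rw [e31] at h; exact h
                      have hb32 : T.a 3 2 = 0 * T.w 3 := by have h := C.hb 3 2 (by decide); rw [e32] at h; exact h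
                      have r01 : 1 * T.w 0 = 2 * T.w 1 := by have h := C.rel (by decide : (0 : Fin 4) ≠ 1); rw [e01, e10] at h; exact h
                      have r02 : 1 * T.w 0 = 1 * T.w 2 := by have h := C.rel (by decide : (0 : Fin 4) ≠ 2); rw [e02, e20] at h; exact h
                      have r03 : 1 * T.w 0 = 1 * T.w 3 := by have h := C.rel (by decide : (0 : Fin 4) ≠ 3); rw [e03, e30] at h; exact h
                      have r12 : 0 * T.w 1 = 0 * T.w 2 := by have h := C.rel (by decide : (1 : Fin 4) ≠ 2); rw [e12, e21] at h; exact h
                      have r13 : 0 * T.w 1 = 0 * T.w 3 := by have h := C.rel (by decide : (1 : Fin 4) ≠ 3); rw [e13, e31] at h; exact h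
                      have r23 : 0 * T.w 2 = 0 * T.w 3 := by have h := C.rel (by decide : (2 : Fin 4) ≠ 3); rw [e23, e32] at h; exact h
                      have d0 := C.diag 0
                      have d1 := C.diag 1
                      have d2 := C.diag 2
                      have d3 := C.diag 3
                      obtain ⟨σ, s0, s1, s2, s3⟩ : ∃ σ : Equiv.Perm (Fin 4), σ 0 = 0 ∧ σ 1 = 2 ∧ σ 2 = 3 ∧ σ 3 = 1 :=
                        ⟨⟨![0, 2, 3, 1], ![0, 3, 1, 2], by decide, by decide⟩, rfl, rfl, rfl, rfl⟩
                      refine ⟨fun i => (C.hm2 i).1, σ, T.m 2, T.w 1, ?_⟩
                      rw [s0, s1, s2, s3]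
                      refine Or.inr (Or.inr (Or.inr (Or.inr (Or.inr (?_)))))
                      refine ⟨by linarith, by linarith, by linarith, by linarith, by linarith, by linarith, by linarith, by linarith, by linarith, by linarith, by linarith, by linarith, by linarith, by linarith, by linarith, by linarith, by linarith, by linarith⟩
                    · have L30 : 2 ≤ b 3 0 := by omega
                      exact (C.too_big ![![0, 1, 1, 1], ![2, 0, 0, 0], ![1, 0, 0, 0], ![2, 0, 0, 0]] (fun s t hst => by fin_cases s <;> fin_cases t <;> first | exact absurd rfl hst | assumption)
                        ![1, 1, 0, 1] (by decide) (by decide) (by decide) (by decide)).elim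
                  · have L23 : 1 ≤ b 2 3 := by omega
                    have L32 : 1 ≤ b 3 2 := C.pos_symm (by decide) (by omega)
                    exact (C.too_big ![![0, 1, 1, 1], ![2, 0, 0, 0], ![1, 0, 0, 1], ![1, 0, 1, 0]] (fun s t hst => by fin_cases s <;> fin_cases t <;> first | exact absurd rfl hst | assumption)
                      ![1, 0, 1, 1] (by decide) (by decide) (by decide) (by decide)).elim
                · have L20 : 2 ≤ b 2 0 := by omega
                  exact (C.too_big ![![0, 1, 1, 1], ![2, 0, 0, 0], ![2, 0, 0, 0], ![1, 0, 0, 0]] (fun s t hst => by fin_cases s <;> fin_cases t <;> first | exact absurd rfl hst | assumption)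
                    ![1, 1, 1, 0] (by decide) (by decide) (by decide) (by decide)).elim
              · have L13 : 1 ≤ b 1 3 := by omega
                have L31 : 1 ≤ b 3 1 := C.pos_symm (by decide) (by omega)
                exact (C.too_big ![![0, 1, 1, 1], ![2, 0, 0, 1], ![1, 0, 0, 0], ![1, 1, 0, 0]] (fun s t hst => by fin_cases s <;> fin_cases t <;> first | exact absurd rfl hst | assumption)
                  ![1, 1, 0, 1] (by decide) (by decide) (by decide) (by decide)).elim
            · have L12 : 1 ≤ b 1 2 := by omega
              have L21 : 1 ≤ b 2 1 := C.pos_symm (by decide) (by omega)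
              exact (C.too_big ![![0, 1, 1, 1], ![2, 0, 1, 0], ![1, 1, 0, 0], ![1, 0, 0, 0]] (fun s t hst => by fin_cases s <;> fin_cases t <;> first | exact absurd rfl hst | assumption)
                ![1, 1, 1, 0] (by decide) (by decide) (by decide) (by decide)).elim
          · have L10 : 3 ≤ b 1 0 := by omega
            exact (C.too_big ![![0, 1, 1, 1], ![3, 0, 0, 0], ![1, 0, 0, 0], ![1, 0, 0, 0]] (fun s t hst => by fin_cases s <;> fin_cases t <;> first | exact absurd rfl hst | assumption)
              ![2, 3, 0, 1] (by decide) (by decide) (by decide) (by decide)).elim
      · have L03 : 2 ≤ b 0 3 := by omega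
        rcases le_or_gt (b 0 3) 2 with hc | hc
        · have U03 : b 0 3 ≤ 2 := hc
          rcases le_or_gt (b 1 0) 1 with hc | hc
          · have U10 : b 1 0 ≤ 1 := hc
            rcases le_or_gt (b 1 2) 0 with hc | hc
            · have U12 : b 1 2 ≤ 0 := hc
              have U21 : b 2 1 ≤ 0 := C.le_zero_symm (by decide) hc
              rcases le_or_gt (b 1 3) 0 with hc | hc
              · have U13 : b 1 3 ≤ 0 := hc
                have U31 : b 3 1 ≤ 0 := C.le_zero_symm (by decide) hc
                rcases le_or_gt (b 2 0) 1 with hc | hc
                · have U20 : b 2 0 ≤ 1 := hc
                  rcases le_or_gt (b 2 3) 0 with hc | hc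
                  · have U23 : b 2 3 ≤ 0 := hc
                    have U32 : b 3 2 ≤ 0 := C.le_zero_symm (by decide) hc
                    rcases le_or_gt (b 3 0) 1 with hc | hc
                    · have U30 : b 3 0 ≤ 1 := hc
                      have e01 : b 0 1 = 1 := le_antisymm U01 L01
                      have e02 : b 0 2 = 1 := le_antisymm U02 L02
                      have e03 : b 0 3 = 2 := le_antisymm U03 L03
                      have e10 : b 1 0 = 1 := le_antisymm U10 L10
                      have e12 : b 1 2 = 0 := le_antisymm U12 L12
                      have e13 : b 1 3 = 0 := le_antisymm U13 L13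
                      have e20 : b 2 0 = 1 := le_antisymm U20 L20
                      have e21 : b 2 1 = 0 := le_antisymm U21 L21
                      have e23 : b 2 3 = 0 := le_antisymm U23 L23
                      have e30 : b 3 0 = 1 := le_antisymm U30 L30
                      have e31 : b 3 1 = 0 := le_antisymm U31 L31
                      have e32 : b 3 2 = 0 := le_antisymm U32 L32
                      have row0 : 1 * T.m 1 + 1 * T.m 2 + 2 * T.m 3 = 2 * T.m 0 := by
                        have h := C.row 0
                        simp [Fin.sum_univ_four] at h
                        rw [e01, e02, e03] at h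
                        linarith
                      have row1 : 1 * T.m 0 + 0 * T.m 2 + 0 * T.m 3 = 2 * T.m 1 := by
                        have h := C.row 1
                        simp [Fin.sum_univ_four] at h
                        rw [e10, e12, e13] at h
                        linarith
                      have row2 : 1 * T.m 0 + 0 * T.m 1 + 0 * T.m 3 = 2 * T.m 2 := by
                        have h := C.row 2
                        simp [Fin.sum_univ_four] at h
                        rw [e20, e21, e23] at h
                        linarith
                      have row3 : 1 * T.m 0 + 0 * T.m 1 + 0 * T.m 2 = 2 * T.m 3 := by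
                        have h := C.row 3
                        simp [Fin.sum_univ_four] at h
                        rw [e30, e31, e32] at h
                        linarith
                      have hb01 : T.a 0 1 = 1 * T.w 0 := by have h := C.hb 0 1 (by decide); rw [e01] at h; exact h
                      have hb02 : T.a 0 2 = 1 * T.w 0 := by have h := C.hb 0 2 (by decide); rw [e02] at h; exact h
                      have hb03 : T.a 0 3 = 2 * T.w 0 := by have h := C.hb 0 3 (by decide); rw [e03] at h; exact h
                      have hb10 : T.a 1 0 = 1 * T.w 1 := by have h := C.hb 1 0 (by decide); rw [e10] at h; exact h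
                      have hb12 : T.a 1 2 = 0 * T.w 1 := by have h := C.hb 1 2 (by decide); rw [e12] at h; exact h
                      have hb13 : T.a 1 3 = 0 * T.w 1 := by have h := C.hb 1 3 (by decide); rw [e13] at h; exact h
                      have hb20 : T.a 2 0 = 1 * T.w 2 := by have h := C.hb 2 0 (by decide); rw [e20] at h; exact h
                      have hb21 : T.a 2 1 = 0 * T.w 2 := by have h := C.hb 2 1 (by decide); rw [e21] at h; exact h
                      have hb23 : T.a 2 3 = 0 * T.w 2 := by have h := C.hb 2 3 (by decide); rw [e23] at h; exact h
                      have hb30 : T.a 3 0 = 1 * T.w 3 := by have h := C.hb 3 0 (by decide); rw [e30] at h; exact h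
                      have hb31 : T.a 3 1 = 0 * T.w 3 := by have h := C.hb 3 1 (by decide); rw [e31] at h; exact h
                      have hb32 : T.a 3 2 = 0 * T.w 3 := by have h := C.hb 3 2 (by decide); rw [e32] at h; exact h
                      have r01 : 1 * T.w 0 = 1 * T.w 1 := by have h := C.rel (by decide : (0 : Fin 4) ≠ 1); rw [e01, e10] at h; exact h
                      have r02 : 1 * T.w 0 = 1 * T.w 2 := by have h := C.rel (by decide : (0 : Fin 4) ≠ 2); rw [e02, e20] at h; exact h
                      have r03 : 2 * T.w 0 = 1 * T.w 3 := by have h := C.rel (by decide : (0 : Fin 4) ≠ 3); rw [e03, e30] at h; exact h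
                      have r12 : 0 * T.w 1 = 0 * T.w 2 := by have h := C.rel (by decide : (1 : Fin 4) ≠ 2); rw [e12, e21] at h; exact h
                      have r13 : 0 * T.w 1 = 0 * T.w 3 := by have h := C.rel (by decide : (1 : Fin 4) ≠ 3); rw [e13, e31] at h; exact h
                      have r23 : 0 * T.w 2 = 0 * T.w 3 := by have h := C.rel (by decide : (2 : Fin 4) ≠ 3); rw [e23, e32] at h; exact h
                      have d0 := C.diag 0
                      have d1 := C.diag 1
                      have d2 := C.diag 2
                      have d3 := C.diag 3
                      obtain ⟨σ, s0, s1, s2, s3⟩ : ∃ σ : Equiv.Perm (Fin 4), σ 0 = 0 ∧ σ 1 = 1 ∧ σ 2 = 2 ∧ σ 3 = 3 :=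
                        ⟨⟨![0, 1, 2, 3], ![0, 1, 2, 3], by decide, by decide⟩, rfl, rfl, rfl, rfl⟩
                      refine ⟨fun i => (C.hm2 i).1, σ, T.m 1, T.w 0, ?_⟩
                      rw [s0, s1, s2, s3]
                      refine Or.inr (Or.inr (Or.inr (Or.inr (Or.inl ?_))))
                      refine ⟨by linarith, by linarith, by linarith, by linarith, by linarith, by linarith, by linarith, by linarith, by linarith, by linarith, by linarith, by linarith, by linarith, by linarith, by linarith, by linarith, by linarith, by linarith⟩
                    · have L30 : 2 ≤ b 3 0 := by omega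
                      exact (C.too_big ![![0, 1, 1, 2], ![1, 0, 0, 0], ![1, 0, 0, 0], ![2, 0, 0, 0]] (fun s t hst => by fin_cases s <;> fin_cases t <;> first | exact absurd rfl hst | assumption)
                        ![2, 0, 1, 2] (by decide) (by decide) (by decide) (by decide)).elim
                  · have L23 : 1 ≤ b 2 3 := by omega
                    have L32 : 1 ≤ b 3 2 := C.pos_symm (by decide) (by omega)
                    exact (C.too_big ![![0, 1, 1, 2], ![1, 0, 0, 0], ![1, 0, 0, 1], ![1, 0, 1, 0]] (fun s t hst => by fin_cases s <;> fin_cases t <;> first | exact absurd rfl hst | assumption)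
                      ![1, 0, 1, 1] (by decide) (by decide) (by decide) (by decide)).elim
                · have L20 : 2 ≤ b 2 0 := by omega
                  exact (C.too_big ![![0, 1, 1, 2], ![1, 0, 0, 0], ![2, 0, 0, 0], ![1, 0, 0, 0]] (fun s t hst => by fin_cases s <;> fin_cases t <;> first | exact absurd rfl hst | assumption)
                    ![2, 0, 2, 1] (by decide) (by decide) (by decide) (by decide)).elim
              · have L13 : 1 ≤ b 1 3 := by omega
                have L31 : 1 ≤ b 3 1 := C.pos_symm (by decide) (by omega)
                exact (C.too_big ![![0, 1, 1, 2], ![1, 0, 0, 1], ![1, 0, 0, 0], ![1, 1, 0, 0]] (fun s t hst => by fin_cases s <;> fin_cases t <;> first | exact absurd rfl hst | assumption)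
                  ![1, 1, 0, 1] (by decide) (by decide) (by decide) (by decide)).elim
            · have L12 : 1 ≤ b 1 2 := by omega
              have L21 : 1 ≤ b 2 1 := C.pos_symm (by decide) (by omega)
              exact (C.too_big ![![0, 1, 1, 2], ![1, 0, 1, 0], ![1, 1, 0, 0], ![1, 0, 0, 0]] (fun s t hst => by fin_cases s <;> fin_cases t <;> first | exact absurd rfl hst | assumption)
                ![1, 1, 1, 0] (by decide) (by decide) (by decide) (by decide)).elim
          · have L10 : 2 ≤ b 1 0 := by omega
            exact (C.too_big ![![0, 1, 1, 2], ![2, 0, 0, 0], ![1, 0, 0, 0], ![1, 0, 0, 0]] (fun s t hst => by fin_cases s <;> fin_cases t <;> first | exact absurd rfl hst | assumption)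
              ![2, 2, 0, 1] (by decide) (by decide) (by decide) (by decide)).elim
        · have L03 : 3 ≤ b 0 3 := by omega
          exact (C.too_big ![![0, 1, 1, 3], ![1, 0, 0, 0], ![1, 0, 0, 0], ![1, 0, 0, 0]] (fun s t hst => by fin_cases s <;> fin_cases t <;> first | exact absurd rfl hst | assumption)
            ![2, 0, 1, 1] (by decide) (by decide) (by decide) (by decide)).elim
  · have L02 : 2 ≤ b 0 2 := by omega
    rcases le_or_gt (b 0 2) 2 with hc | hc
    · have U02 : b 0 2 ≤ 2 := hc
      rcases le_or_gt (b 0 3) 0 with hc | hc
      · have U03 : b 0 3 ≤ 0 := hc
        have U30 : b 3 0 ≤ 0 := C.le_zero_symm (by decide) hc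
        rcases le_or_gt (b 1 0) 1 with hc | hc
        · have U10 : b 1 0 ≤ 1 := hc
          rcases le_or_gt (b 1 2) 0 with hc | hc
          · have U12 : b 1 2 ≤ 0 := hc
            have U21 : b 2 1 ≤ 0 := C.le_zero_symm (by decide) hc
            rcases le_or_gt (b 1 3) 0 with hc | hc
            · have U13 : b 1 3 ≤ 0 := hc
              have U31 : b 3 1 ≤ 0 := C.le_zero_symm (by decide) hc
              rcases le_or_gt (b 2 0) 1 with hc | hc
              · have U20 : b 2 0 ≤ 1 := hc
                rcases le_or_gt (b 2 3) 0 with hc | hc
                · have U23 : b 2 3 ≤ 0 := hc
                  have U32 : b 3 2 ≤ 0 := C.le_zero_symm (by decide) hc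
                  exact (C.too_small ![![0, 1, 2, 0], ![1, 0, 0, 0], ![1, 0, 0, 0], ![0, 0, 0, 0]] (fun s t hst => by fin_cases s <;> fin_cases t <;> first | exact absurd rfl hst | assumption)
                    ![2, 1, 1, 1] (by decide) (by decide) (by decide)).elim
                · have L23 : 1 ≤ b 2 3 := by omega
                  have L32 : 1 ≤ b 3 2 := C.pos_symm (by decide) (by omega)
                  rcases le_or_gt (b 2 3) 1 with hc | hc
                  · have U23 : b 2 3 ≤ 1 := hc
                    rcases le_or_gt (b 3 2) 1 with hc | hc
                    · have U32 : b 3 2 ≤ 1 := hc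
                      exact (C.too_small ![![0, 1, 2, 0], ![1, 0, 0, 0], ![1, 0, 0, 1], ![0, 0, 1, 0]] (fun s t hst => by fin_cases s <;> fin_cases t <;> first | exact absurd rfl hst | assumption)
                        ![8, 4, 6, 3] (by decide) (by decide) (by decide)).elim
                    · have L32 : 2 ≤ b 3 2 := by omega
                      exact (C.too_big ![![0, 1, 2, 0], ![1, 0, 0, 0], ![1, 0, 0, 1], ![0, 0, 2, 0]] (fun s t hst => by fin_cases s <;> fin_cases t <;> first | exact absurd rfl hst | assumption)
                        ![1, 0, 1, 1] (by decide) (by decide) (by decide) (by decide)).elim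
                  · have L23 : 2 ≤ b 2 3 := by omega
                    exact (C.too_big ![![0, 1, 2, 0], ![1, 0, 0, 0], ![1, 0, 0, 2], ![0, 0, 1, 0]] (fun s t hst => by fin_cases s <;> fin_cases t <;> first | exact absurd rfl hst | assumption)
                      ![2, 0, 2, 1] (by decide) (by decide) (by decide) (by decide)).elim
              · have L20 : 2 ≤ b 2 0 := by omega
                exact (C.too_big ![![0, 1, 2, 0], ![1, 0, 0, 0], ![2, 0, 0, 0], ![0, 0, 0, 0]] (fun s t hst => by fin_cases s <;> fin_cases t <;> first | exact absurd rfl hst | assumption)
                  ![1, 0, 1, 0] (by decide) (by decide) (by decide) (by decide)).elim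
            · have L13 : 1 ≤ b 1 3 := by omega
              have L31 : 1 ≤ b 3 1 := C.pos_symm (by decide) (by omega)
              rcases le_or_gt (b 1 3) 1 with hc | hc
              · have U13 : b 1 3 ≤ 1 := hc
                rcases le_or_gt (b 2 0) 1 with hc | hc
                · have U20 : b 2 0 ≤ 1 := hc
                  rcases le_or_gt (b 2 3) 0 with hc | hc
                  · have U23 : b 2 3 ≤ 0 := hc
                    have U32 : b 3 2 ≤ 0 := C.le_zero_symm (by decide) hc
                    rcases le_or_gt (b 3 1) 1 with hc | hc
                    · have U31 : b 3 1 ≤ 1 := hc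
                      exact (C.too_small ![![0, 1, 2, 0], ![1, 0, 0, 1], ![1, 0, 0, 0], ![0, 1, 0, 0]] (fun s t hst => by fin_cases s <;> fin_cases t <;> first | exact absurd rfl hst | assumption)
                        ![2, 2, 1, 1] (by decide) (by decide) (by decide)).elim
                    · have L31 : 2 ≤ b 3 1 := by omega
                      rcases le_or_gt (b 3 1) 2 with hc | hc
                      · have U31 : b 3 1 ≤ 2 := hc
                        have e01 : b 0 1 = 1 := le_antisymm U01 L01
                        have e02 : b 0 2 = 2 := le_antisymm U02 L02
                        have e03 : b 0 3 = 0 := le_antisymm U03 L03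
                        have e10 : b 1 0 = 1 := le_antisymm U10 L10
                        have e12 : b 1 2 = 0 := le_antisymm U12 L12
                        have e13 : b 1 3 = 1 := le_antisymm U13 L13
                        have e20 : b 2 0 = 1 := le_antisymm U20 L20
                        have e21 : b 2 1 = 0 := le_antisymm U21 L21
                        have e23 : b 2 3 = 0 := le_antisymm U23 L23
                        have e30 : b 3 0 = 0 := le_antisymm U30 L30
                        have e31 : b 3 1 = 2 := le_antisymm U31 L31
                        have e32 : b 3 2 = 0 := le_antisymm U32 L32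
                        have row0 : 1 * T.m 1 + 2 * T.m 2 + 0 * T.m 3 = 2 * T.m 0 := by
                          have h := C.row 0
                          simp [Fin.sum_univ_four] at h
                          rw [e01, e02, e03] at h
                          linarith
                        have row1 : 1 * T.m 0 + 0 * T.m 2 + 1 * T.m 3 = 2 * T.m 1 := by
                          have h := C.row 1
                          simp [Fin.sum_univ_four] at h
                          rw [e10, e12, e13] at h
                          linarith
                        have row2 : 1 * T.m 0 + 0 * T.m 1 + 0 * T.m 3 = 2 * T.m 2 := by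
                          have h := C.row 2
                          simp [Fin.sum_univ_four] at h
                          rw [e20, e21, e23] at h
                          linarith
                        have row3 : 0 * T.m 0 + 2 * T.m 1 + 0 * T.m 2 = 2 * T.m 3 := by
                          have h := C.row 3
                          simp [Fin.sum_univ_four] at h
                          rw [e30, e31, e32] at h
                          linarith
                        have hb01 : T.a 0 1 = 1 * T.w 0 := by have h := C.hb 0 1 (by decide); rw [e01] at h; exact h
                        have hb02 : T.a 0 2 = 2 * T.w 0 := by have h := C.hb 0 2 (by decide); rw [e02] at h; exact h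
                        have hb03 : T.a 0 3 = 0 * T.w 0 := by have h := C.hb 0 3 (by decide); rw [e03] at h; exact h
                        have hb10 : T.a 1 0 = 1 * T.w 1 := by have h := C.hb 1 0 (by decide); rw [e10] at h; exact h
                        have hb12 : T.a 1 2 = 0 * T.w 1 := by have h := C.hb 1 2 (by decide); rw [e12] at h; exact h
                        have hb13 : T.a 1 3 = 1 * T.w 1 := by have h := C.hb 1 3 (by decide); rw [e13] at h; exact h
                        have hb20 : T.a 2 0 = 1 * T.w 2 := by have h := C.hb 2 0 (by decide); rw [e20] at h; exact h
                        have hb21 : T.a 2 1 = 0 * T.w 2 := by have h := C.hb 2 1 (by decide); rw [e21] at h; exact h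
                        have hb23 : T.a 2 3 = 0 * T.w 2 := by have h := C.hb 2 3 (by decide); rw [e23] at h; exact h
                        have hb30 : T.a 3 0 = 0 * T.w 3 := by have h := C.hb 3 0 (by decide); rw [e30] at h; exact h
                        have hb31 : T.a 3 1 = 2 * T.w 3 := by have h := C.hb 3 1 (by decide); rw [e31] at h; exact h
                        have hb32 : T.a 3 2 = 0 * T.w 3 := by have h := C.hb 3 2 (by decide); rw [e32] at h; exact h
                        have r01 : 1 * T.w 0 = 1 * T.w 1 := by have h := C.rel (by decide : (0 : Fin 4) ≠ 1); rw [e01, e10] at h; exact h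
                        have r02 : 2 * T.w 0 = 1 * T.w 2 := by have h := C.rel (by decide : (0 : Fin 4) ≠ 2); rw [e02, e20] at h; exact h
                        have r03 : 0 * T.w 0 = 0 * T.w 3 := by have h := C.rel (by decide : (0 : Fin 4) ≠ 3); rw [e03, e30] at h; exact h
                        have r12 : 0 * T.w 1 = 0 * T.w 2 := by have h := C.rel (by decide : (1 : Fin 4) ≠ 2); rw [e12, e21] at h; exact h
                        have r13 : 1 * T.w 1 = 2 * T.w 3 := by have h := C.rel (by decide : (1 : Fin 4) ≠ 3); rw [e13, e31] at h; exact h
                        have r23 : 0 * T.w 2 = 0 * T.w 3 := by have h := C.rel (by decide : (2 : Fin 4) ≠ 3); rw [e23, e32] at h; exact h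
                        have d0 := C.diag 0
                        have d1 := C.diag 1
                        have d2 := C.diag 2
                        have d3 := C.diag 3
                        obtain ⟨σ, s0, s1, s2, s3⟩ : ∃ σ : Equiv.Perm (Fin 4), σ 0 = 3 ∧ σ 1 = 1 ∧ σ 2 = 0 ∧ σ 3 = 2 :=
                          ⟨⟨![3, 1, 0, 2], ![2, 1, 3, 0], by decide, by decide⟩, rfl, rfl, rfl, rfl⟩
                        refine ⟨fun i => (C.hm2 i).1, σ, T.m 2, T.w 3, ?_⟩
                        rw [s0, s1, s2, s3]
                        refine Or.inr (Or.inl ?_)
                        refine ⟨by linarith, by linarith, by linarith, by linarith, by linarith, by linarith, by linarith, by linarith, by linarith, by linarith, by linarith, by linarith, by linarith, by linarith, by linarith, by linarith, by linarith, by linarith⟩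
                      · have L31 : 3 ≤ b 3 1 := by omega
                        exact (C.too_big ![![0, 1, 2, 0], ![1, 0, 0, 1], ![1, 0, 0, 0], ![0, 3, 0, 0]] (fun s t hst => by fin_cases s <;> fin_cases t <;> first | exact absurd rfl hst | assumption)
                          ![1, 2, 0, 3] (by decide) (by decide) (by decide) (by decide)).elim
                  · have L23 : 1 ≤ b 2 3 := by omega
                    have L32 : 1 ≤ b 3 2 := C.pos_symm (by decide) (by omega)
                    exact (C.too_big_whole ![![0, 1, 2, 0], ![1, 0, 0, 1], ![1, 0, 0, 1], ![0, 1, 1, 0]] (fun s t hst => by fin_cases s <;> fin_cases t <;> first | exact absurd rfl hst | assumption)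
                      ![3, 2, 2, 2] (by decide) (by decide) (by decide)).elim
                · have L20 : 2 ≤ b 2 0 := by omega
                  exact (C.too_big ![![0, 1, 2, 0], ![1, 0, 0, 1], ![2, 0, 0, 0], ![0, 1, 0, 0]] (fun s t hst => by fin_cases s <;> fin_cases t <;> first | exact absurd rfl hst | assumption)
                    ![1, 0, 1, 0] (by decide) (by decide) (by decide) (by decide)).elim
              · have L13 : 2 ≤ b 1 3 := by omega
                rcases le_or_gt (b 1 3) 2 with hc | hc
                · have U13 : b 1 3 ≤ 2 := hc
                  rcases le_or_gt (b 2 0) 1 with hc | hc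
                  · have U20 : b 2 0 ≤ 1 := hc
                    rcases le_or_gt (b 2 3) 0 with hc | hc
                    · have U23 : b 2 3 ≤ 0 := hc
                      have U32 : b 3 2 ≤ 0 := C.le_zero_symm (by decide) hc
                      rcases le_or_gt (b 3 1) 1 with hc | hc
                      · have U31 : b 3 1 ≤ 1 := hc
                        have e01 : b 0 1 = 1 := le_antisymm U01 L01
                        have e02 : b 0 2 = 2 := le_antisymm U02 L02
                        have e03 : b 0 3 = 0 := le_antisymm U03 L03
                        have e10 : b 1 0 = 1 := le_antisymm U10 L10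
                        have e12 : b 1 2 = 0 := le_antisymm U12 L12
                        have e13 : b 1 3 = 2 := le_antisymm U13 L13
                        have e20 : b 2 0 = 1 := le_antisymm U20 L20
                        have e21 : b 2 1 = 0 := le_antisymm U21 L21
                        have e23 : b 2 3 = 0 := le_antisymm U23 L23
                        have e30 : b 3 0 = 0 := le_antisymm U30 L30
                        have e31 : b 3 1 = 1 := le_antisymm U31 L31
                        have e32 : b 3 2 = 0 := le_antisymm U32 L32
                        have row0 : 1 * T.m 1 + 2 * T.m 2 + 0 * T.m 3 = 2 * T.m 0 := by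
                          have h := C.row 0
                          simp [Fin.sum_univ_four] at h
                          rw [e01, e02, e03] at h
                          linarith
                        have row1 : 1 * T.m 0 + 0 * T.m 2 + 2 * T.m 3 = 2 * T.m 1 := by
                          have h := C.row 1
                          simp [Fin.sum_univ_four] at h
                          rw [e10, e12, e13] at h
                          linarith
                        have row2 : 1 * T.m 0 + 0 * T.m 1 + 0 * T.m 3 = 2 * T.m 2 := by
                          have h := C.row 2
                          simp [Fin.sum_univ_four] at h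
                          rw [e20, e21, e23] at h
                          linarith
                        have row3 : 0 * T.m 0 + 1 * T.m 1 + 0 * T.m 2 = 2 * T.m 3 := by
                          have h := C.row 3
                          simp [Fin.sum_univ_four] at h
                          rw [e30, e31, e32] at h
                          linarith
                        have hb01 : T.a 0 1 = 1 * T.w 0 := by have h := C.hb 0 1 (by decide); rw [e01] at h; exact h
                        have hb02 : T.a 0 2 = 2 * T.w 0 := by have h := C.hb 0 2 (by decide); rw [e02] at h; exact h
                        have hb03 : T.a 0 3 = 0 * T.w 0 := by have h := C.hb 0 3 (by decide); rw [e03] at h; exact h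
                        have hb10 : T.a 1 0 = 1 * T.w 1 := by have h := C.hb 1 0 (by decide); rw [e10] at h; exact h
                        have hb12 : T.a 1 2 = 0 * T.w 1 := by have h := C.hb 1 2 (by decide); rw [e12] at h; exact h
                        have hb13 : T.a 1 3 = 2 * T.w 1 := by have h := C.hb 1 3 (by decide); rw [e13] at h; exact h
                        have hb20 : T.a 2 0 = 1 * T.w 2 := by have h := C.hb 2 0 (by decide); rw [e20] at h; exact h
                        have hb21 : T.a 2 1 = 0 * T.w 2 := by have h := C.hb 2 1 (by decide); rw [e21] at h; exact h
                        have hb23 : T.a 2 3 = 0 * T.w 2 := by have h := C.hb 2 3 (by decide); rw [e23] at h; exact h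
                        have hb30 : T.a 3 0 = 0 * T.w 3 := by have h := C.hb 3 0 (by decide); rw [e30] at h; exact h
                        have hb31 : T.a 3 1 = 1 * T.w 3 := by have h := C.hb 3 1 (by decide); rw [e31] at h; exact h
                        have hb32 : T.a 3 2 = 0 * T.w 3 := by have h := C.hb 3 2 (by decide); rw [e32] at h; exact h
                        have r01 : 1 * T.w 0 = 1 * T.w 1 := by have h := C.rel (by decide : (0 : Fin 4) ≠ 1); rw [e01, e10] at h; exact h
                        have r02 : 2 * T.w 0 = 1 * T.w 2 := by have h := C.rel (by decide : (0 : Fin 4) ≠ 2); rw [e02, e20] at h; exact h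
                        have r03 : 0 * T.w 0 = 0 * T.w 3 := by have h := C.rel (by decide : (0 : Fin 4) ≠ 3); rw [e03, e30] at h; exact h
                        have r12 : 0 * T.w 1 = 0 * T.w 2 := by have h := C.rel (by decide : (1 : Fin 4) ≠ 2); rw [e12, e21] at h; exact h
                        have r13 : 2 * T.w 1 = 1 * T.w 3 := by have h := C.rel (by decide : (1 : Fin 4) ≠ 3); rw [e13, e31] at h; exact h
                        have r23 : 0 * T.w 2 = 0 * T.w 3 := by have h := C.rel (by decide : (2 : Fin 4) ≠ 3); rw [e23, e32] at h; exact h
                        have d0 := C.diag 0
                        have d1 := C.diag 1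
                        have d2 := C.diag 2
                        have d3 := C.diag 3
                        obtain ⟨σ, s0, s1, s2, s3⟩ : ∃ σ : Equiv.Perm (Fin 4), σ 0 = 2 ∧ σ 1 = 0 ∧ σ 2 = 1 ∧ σ 3 = 3 :=
                          ⟨⟨![2, 0, 1, 3], ![1, 2, 0, 3], by decide, by decide⟩, rfl, rfl, rfl, rfl⟩
                        refine ⟨fun i => (C.hm2 i).1, σ, T.m 2, T.w 0, ?_⟩
                        rw [s0, s1, s2, s3]
                        refine Or.inr (Or.inr (Or.inr (Or.inl ?_)))
                        refine ⟨by linarith, by linarith, by linarith, by linarith, by linarith, by linarith, by linarith, by linarith, by linarith, by linarith, by linarith, by linarith, by linarith, by linarith, by linarith, by linarith, by linarith, by linarith⟩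
                      · have L31 : 2 ≤ b 3 1 := by omega
                        exact (C.too_big ![![0, 1, 2, 0], ![1, 0, 0, 2], ![1, 0, 0, 0], ![0, 2, 0, 0]] (fun s t hst => by fin_cases s <;> fin_cases t <;> first | exact absurd rfl hst | assumption)
                          ![0, 1, 0, 1] (by decide) (by decide) (by decide) (by decide)).elim
                    · have L23 : 1 ≤ b 2 3 := by omega
                      have L32 : 1 ≤ b 3 2 := C.pos_symm (by decide) (by omega)
                      exact (C.too_big_whole ![![0, 1, 2, 0], ![1, 0, 0, 2], ![1, 0, 0, 1], ![0, 1, 1, 0]] (fun s t hst => by fin_cases s <;> fin_cases t <;> first | exact absurd rfl hst | assumption)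
                        ![1, 1, 1, 1] (by decide) (by decide) (by decide)).elim
                  · have L20 : 2 ≤ b 2 0 := by omega
                    exact (C.too_big ![![0, 1, 2, 0], ![1, 0, 0, 2], ![2, 0, 0, 0], ![0, 1, 0, 0]] (fun s t hst => by fin_cases s <;> fin_cases t <;> first | exact absurd rfl hst | assumption)
                      ![1, 0, 1, 0] (by decide) (by decide) (by decide) (by decide)).elim
                · have L13 : 3 ≤ b 1 3 := by omega
                  exact (C.too_big ![![0, 1, 2, 0], ![1, 0, 0, 3], ![1, 0, 0, 0], ![0, 1, 0, 0]] (fun s t hst => by fin_cases s <;> fin_cases t <;> first | exact absurd rfl hst | assumption)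
                    ![1, 2, 0, 1] (by decide) (by decide) (by decide) (by decide)).elim
          · have L12 : 1 ≤ b 1 2 := by omega
            have L21 : 1 ≤ b 2 1 := C.pos_symm (by decide) (by omega)
            exact (C.too_big ![![0, 1, 2, 0], ![1, 0, 1, 0], ![1, 1, 0, 0], ![0, 0, 0, 0]] (fun s t hst => by fin_cases s <;> fin_cases t <;> first | exact absurd rfl hst | assumption)
              ![1, 1, 1, 0] (by decide) (by decide) (by decide) (by decide)).elim
        · have L10 : 2 ≤ b 1 0 := by omega
          exact (C.too_big ![![0, 1, 2, 0], ![2, 0, 0, 0], ![1, 0, 0, 0], ![0, 0, 0, 0]] (fun s t hst => by fin_cases s <;> fin_cases t <;> first | exact absurd rfl hst | assumption)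
            ![2, 2, 1, 0] (by decide) (by decide) (by decide) (by decide)).elim
      · have L03 : 1 ≤ b 0 3 := by omega
        have L30 : 1 ≤ b 3 0 := C.pos_symm (by decide) (by omega)
        rcases le_or_gt (b 0 3) 1 with hc | hc
        · have U03 : b 0 3 ≤ 1 := hc
          rcases le_or_gt (b 1 0) 1 with hc | hc
          · have U10 : b 1 0 ≤ 1 := hc
            rcases le_or_gt (b 1 2) 0 with hc | hc
            · have U12 : b 1 2 ≤ 0 := hc
              have U21 : b 2 1 ≤ 0 := C.le_zero_symm (by decide) hc
              rcases le_or_gt (b 1 3) 0 with hc | hc
              · have U13 : b 1 3 ≤ 0 := hc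
                have U31 : b 3 1 ≤ 0 := C.le_zero_symm (by decide) hc
                rcases le_or_gt (b 2 0) 1 with hc | hc
                · have U20 : b 2 0 ≤ 1 := hc
                  rcases le_or_gt (b 2 3) 0 with hc | hc
                  · have U23 : b 2 3 ≤ 0 := hc
                    have U32 : b 3 2 ≤ 0 := C.le_zero_symm (by decide) hc
                    rcases le_or_gt (b 3 0) 1 with hc | hc
                    · have U30 : b 3 0 ≤ 1 := hc
                      have e01 : b 0 1 = 1 := le_antisymm U01 L01
                      have e02 : b 0 2 = 2 := le_antisymm U02 L02
                      have e03 : b 0 3 = 1 := le_antisymm U03 L03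
                      have e10 : b 1 0 = 1 := le_antisymm U10 L10
                      have e12 : b 1 2 = 0 := le_antisymm U12 L12
                      have e13 : b 1 3 = 0 := le_antisymm U13 L13
                      have e20 : b 2 0 = 1 := le_antisymm U20 L20
                      have e21 : b 2 1 = 0 := le_antisymm U21 L21
                      have e23 : b 2 3 = 0 := le_antisymm U23 L23
                      have e30 : b 3 0 = 1 := le_antisymm U30 L30
                      have e31 : b 3 1 = 0 := le_antisymm U31 L31
                      have e32 : b 3 2 = 0 := le_antisymm U32 L32
                      have row0 : 1 * T.m 1 + 2 * T.m 2 + 1 * T.m 3 = 2 * T.m 0 := by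
                        have h := C.row 0
                        simp [Fin.sum_univ_four] at h
                        rw [e01, e02, e03] at h
                        linarith
                      have row1 : 1 * T.m 0 + 0 * T.m 2 + 0 * T.m 3 = 2 * T.m 1 := by
                        have h := C.row 1
                        simp [Fin.sum_univ_four] at h
                        rw [e10, e12, e13] at h
                        linarith
                      have row2 : 1 * T.m 0 + 0 * T.m 1 + 0 * T.m 3 = 2 * T.m 2 := by
                        have h := C.row 2
                        simp [Fin.sum_univ_four] at h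
                        rw [e20, e21, e23] at h
                        linarith
                      have row3 : 1 * T.m 0 + 0 * T.m 1 + 0 * T.m 2 = 2 * T.m 3 := by
                        have h := C.row 3
                        simp [Fin.sum_univ_four] at h
                        rw [e30, e31, e32] at h
                        linarith
                      have hb01 : T.a 0 1 = 1 * T.w 0 := by have h := C.hb 0 1 (by decide); rw [e01] at h; exact h
                      have hb02 : T.a 0 2 = 2 * T.w 0 := by have h := C.hb 0 2 (by decide); rw [e02] at h; exact h
                      have hb03 : T.a 0 3 = 1 * T.w 0 := by have h := C.hb 0 3 (by decide); rw [e03] at h; exact h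
                      have hb10 : T.a 1 0 = 1 * T.w 1 := by have h := C.hb 1 0 (by decide); rw [e10] at h; exact h
                      have hb12 : T.a 1 2 = 0 * T.w 1 := by have h := C.hb 1 2 (by decide); rw [e12] at h; exact h
                      have hb13 : T.a 1 3 = 0 * T.w 1 := by have h := C.hb 1 3 (by decide); rw [e13] at h; exact h
                      have hb20 : T.a 2 0 = 1 * T.w 2 := by have h := C.hb 2 0 (by decide); rw [e20] at h; exact h
                      have hb21 : T.a 2 1 = 0 * T.w 2 := by have h := C.hb 2 1 (by decide); rw [e21] at h; exact h
                      have hb23 : T.a 2 3 = 0 * T.w 2 := by have h := C.hb 2 3 (by decide); rw [e23] at h; exact h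
                      have hb30 : T.a 3 0 = 1 * T.w 3 := by have h := C.hb 3 0 (by decide); rw [e30] at h; exact h
                      have hb31 : T.a 3 1 = 0 * T.w 3 := by have h := C.hb 3 1 (by decide); rw [e31] at h; exact h
                      have hb32 : T.a 3 2 = 0 * T.w 3 := by have h := C.hb 3 2 (by decide); rw [e32] at h; exact h
                      have r01 : 1 * T.w 0 = 1 * T.w 1 := by have h := C.rel (by decide : (0 : Fin 4) ≠ 1); rw [e01, e10] at h; exact h
                      have r02 : 2 * T.w 0 = 1 * T.w 2 := by have h := C.rel (by decide : (0 : Fin 4) ≠ 2); rw [e02, e20] at h; exact h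
                      have r03 : 1 * T.w 0 = 1 * T.w 3 := by have h := C.rel (by decide : (0 : Fin 4) ≠ 3); rw [e03, e30] at h; exact h
                      have r12 : 0 * T.w 1 = 0 * T.w 2 := by have h := C.rel (by decide : (1 : Fin 4) ≠ 2); rw [e12, e21] at h; exact h
                      have r13 : 0 * T.w 1 = 0 * T.w 3 := by have h := C.rel (by decide : (1 : Fin 4) ≠ 3); rw [e13, e31] at h; exact h
                      have r23 : 0 * T.w 2 = 0 * T.w 3 := by have h := C.rel (by decide : (2 : Fin 4) ≠ 3); rw [e23, e32] at h; exact h
                      have d0 := C.diag 0
                      have d1 := C.diag 1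
                      have d2 := C.diag 2
                      have d3 := C.diag 3
                      obtain ⟨σ, s0, s1, s2, s3⟩ : ∃ σ : Equiv.Perm (Fin 4), σ 0 = 0 ∧ σ 1 = 1 ∧ σ 2 = 3 ∧ σ 3 = 2 :=
                        ⟨⟨![0, 1, 3, 2], ![0, 1, 3, 2], by decide, by decide⟩, rfl, rfl, rfl, rfl⟩
                      refine ⟨fun i => (C.hm2 i).1, σ, T.m 1, T.w 0, ?_⟩
                      rw [s0, s1, s2, s3]
                      refine Or.inr (Or.inr (Or.inr (Or.inr (Or.inl ?_))))
                      refine ⟨by linarith, by linarith, by linarith, by linarith, by linarith, by linarith, by linarith, by linarith, by linarith, by linarith, by linarith, by linarith, by linarith, by linarith, by linarith, by linarith, by linarith, by linarith⟩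
                    · have L30 : 2 ≤ b 3 0 := by omega
                      exact (C.too_big ![![0, 1, 2, 1], ![1, 0, 0, 0], ![1, 0, 0, 0], ![2, 0, 0, 0]] (fun s t hst => by fin_cases s <;> fin_cases t <;> first | exact absurd rfl hst | assumption)
                        ![2, 0, 1, 2] (by decide) (by decide) (by decide) (by decide)).elim
                  · have L23 : 1 ≤ b 2 3 := by omega
                    have L32 : 1 ≤ b 3 2 := C.pos_symm (by decide) (by omega)
                    exact (C.too_big ![![0, 1, 2, 1], ![1, 0, 0, 0], ![1, 0, 0, 1], ![1, 0, 1, 0]] (fun s t hst => by fin_cases s <;> fin_cases t <;> first | exact absurd rfl hst | assumption)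
                      ![1, 0, 1, 1] (by decide) (by decide) (by decide) (by decide)).elim
                · have L20 : 2 ≤ b 2 0 := by omega
                  exact (C.too_big ![![0, 1, 2, 1], ![1, 0, 0, 0], ![2, 0, 0, 0], ![1, 0, 0, 0]] (fun s t hst => by fin_cases s <;> fin_cases t <;> first | exact absurd rfl hst | assumption)
                    ![2, 0, 2, 1] (by decide) (by decide) (by decide) (by decide)).elim
              · have L13 : 1 ≤ b 1 3 := by omega
                have L31 : 1 ≤ b 3 1 := C.pos_symm (by decide) (by omega)
                exact (C.too_big ![![0, 1, 2, 1], ![1, 0, 0, 1], ![1, 0, 0, 0], ![1, 1, 0, 0]] (fun s t hst => by fin_cases s <;> fin_cases t <;> first | exact absurd rfl hst | assumption)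
                  ![1, 1, 0, 1] (by decide) (by decide) (by decide) (by decide)).elim
            · have L12 : 1 ≤ b 1 2 := by omega
              have L21 : 1 ≤ b 2 1 := C.pos_symm (by decide) (by omega)
              exact (C.too_big ![![0, 1, 2, 1], ![1, 0, 1, 0], ![1, 1, 0, 0], ![1, 0, 0, 0]] (fun s t hst => by fin_cases s <;> fin_cases t <;> first | exact absurd rfl hst | assumption)
                ![1, 1, 1, 0] (by decide) (by decide) (by decide) (by decide)).elim
          · have L10 : 2 ≤ b 1 0 := by omega
            exact (C.too_big ![![0, 1, 2, 1], ![2, 0, 0, 0], ![1, 0, 0, 0], ![1, 0, 0, 0]] (fun s t hst => by fin_cases s <;> fin_cases t <;> first | exact absurd rfl hst | assumption)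
              ![2, 2, 1, 0] (by decide) (by decide) (by decide) (by decide)).elim
        · have L03 : 2 ≤ b 0 3 := by omega
          exact (C.too_big ![![0, 1, 2, 2], ![1, 0, 0, 0], ![1, 0, 0, 0], ![1, 0, 0, 0]] (fun s t hst => by fin_cases s <;> fin_cases t <;> first | exact absurd rfl hst | assumption)
            ![2, 0, 1, 1] (by decide) (by decide) (by decide) (by decide)).elim
    · have L02 : 3 ≤ b 0 2 := by omega
      exact (C.too_big ![![0, 1, 3, 0], ![1, 0, 0, 0], ![1, 0, 0, 0], ![0, 0, 0, 0]] (fun s t hst => by fin_cases s <;> fin_cases t <;> first | exact absurd rfl hst | assumption)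
        ![2, 1, 1, 0] (by decide) (by decide) (by decide) (by decide)).elim

end Groth.Agent.Lib.Helper36.G4
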