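import Groth.Agent.Lib.Helper36.G4.Defs

/-! Part 5 of the case analysis for the genus one classification, `n = 4` (generated, helper36). -/

set_option autoImplicit false
set_option linter.unusedVariables false
open Finset
open Models Models.NumericalType
open Groth.Agent.Lib.Helper36

namespace Groth.Agent.Lib.Helper36.G4

theorem part5 (T : Models.NumericalType 4) (b : Fin 4 → Fin 4 → ℤ) (C : NT.AffCtx T b)
    (L01 : 0 ≤ b 0 1) (L02 : 1 ≤ b 0 2) (L03 : 0 ≤ b 0 3) (L10 : 0 ≤ b 1 0) (L12 : 1 ≤ b 1 2) (L13 : 0 ≤ b 1 3) (L20 : 1 ≤ b 2 0) (L21 : 1 ≤ b 2 1) (L23 : 0 ≤ b 2 3) (L30 : 0 ≤ b 3 0) (L31 : 0 ≤ b 3 1) (L32 : 0 ≤ b 3 2)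
    (U01 : b 0 1 ≤ 0) (U02 : b 0 2 ≤ 1) (U03 : b 0 3 ≤ 0) (U10 : b 1 0 ≤ 0) (U12 : b 1 2 ≤ 3) (U13 : b 1 3 ≤ 3) (U20 : b 2 0 ≤ 3) (U21 : b 2 1 ≤ 3) (U23 : b 2 3 ≤ 3) (U30 : b 3 0 ≤ 0) (U31 : b 3 1 ≤ 3) (U32 : b 3 2 ≤ 3) : Goal T := by
  unfold Goal
  rcases le_or_gt (b 1 2) 1 with hc | hc
  · have U12 : b 1 2 ≤ 1 := hc
    rcases le_or_gt (b 1 3) 0 with hc | hc
    · have U13 : b 1 3 ≤ 0 := hc
      have U31 : b 3 1 ≤ 0 := C.le_zero_symm (by decide) hc
      rcases le_or_gt (b 2 0) 1 with hc | hc
      · have U20 : b 2 0 ≤ 1 := hc
        rcases le_or_gt (b 2 1) 1 with hc | hc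
        · have U21 : b 2 1 ≤ 1 := hc
          rcases le_or_gt (b 2 3) 0 with hc | hc
          · have U23 : b 2 3 ≤ 0 := hc
            have U32 : b 3 2 ≤ 0 := C.le_zero_symm (by decide) hc
            exact (C.too_small ![![0, 0, 1, 0], ![0, 0, 1, 0], ![1, 1, 0, 0], ![0, 0, 0, 0]] (fun s t hst => by fin_cases s <;> fin_cases t <;> first | exact absurd rfl hst | assumption)
              ![1, 1, 1, 1] (by decide) (by decide) (by decide)).elim
          · have L23 : 1 ≤ b 2 3 := by omega
            have L32 : 1 ≤ b 3 2 := C.pos_symm (by decide) (by omega)
            rcases le_or_gt (b 2 3) 1 with hc | hc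
            · have U23 : b 2 3 ≤ 1 := hc
              rcases le_or_gt (b 3 2) 1 with hc | hc
              · have U32 : b 3 2 ≤ 1 := hc
                exact (C.too_small ![![0, 0, 1, 0], ![0, 0, 1, 0], ![1, 1, 0, 1], ![0, 0, 1, 0]] (fun s t hst => by fin_cases s <;> fin_cases t <;> first | exact absurd rfl hst | assumption)
                  ![1, 1, 2, 1] (by decide) (by decide) (by decide)).elim
              · have L32 : 2 ≤ b 3 2 := by omega
                rcases le_or_gt (b 3 2) 2 with hc | hc
                · have U32 : b 3 2 ≤ 2 := hc
                  have e01 : b 0 1 = 0 := le_antisymm U01 L01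
                  have e02 : b 0 2 = 1 := le_antisymm U02 L02
                  have e03 : b 0 3 = 0 := le_antisymm U03 L03
                  have e10 : b 1 0 = 0 := le_antisymm U10 L10
                  have e12 : b 1 2 = 1 := le_antisymm U12 L12
                  have e13 : b 1 3 = 0 := le_antisymm U13 L13
                  have e20 : b 2 0 = 1 := le_antisymm U20 L20
                  have e21 : b 2 1 = 1 := le_antisymm U21 L21
                  have e23 : b 2 3 = 1 := le_antisymm U23 L23
                  have e30 : b 3 0 = 0 := le_antisymm U30 L30
                  have e31 : b 3 1 = 0 := le_antisymm U31 L31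
                  have e32 : b 3 2 = 2 := le_antisymm U32 L32
                  have row0 : 0 * T.m 1 + 1 * T.m 2 + 0 * T.m 3 = 2 * T.m 0 := by
                    have h := C.row 0
                    simp [Fin.sum_univ_four] at h
                    rw [e01, e02, e03] at h
                    linarith
                  have row1 : 0 * T.m 0 + 1 * T.m 2 + 0 * T.m 3 = 2 * T.m 1 := by
                    have h := C.row 1
                    simp [Fin.sum_univ_four] at h
                    rw [e10, e12, e13] at h
                    linarith
                  have row2 : 1 * T.m 0 + 1 * T.m 1 + 1 * T.m 3 = 2 * T.m 2 := by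
                    have h := C.row 2
                    simp [Fin.sum_univ_four] at h
                    rw [e20, e21, e23] at h
                    linarith
                  have row3 : 0 * T.m 0 + 0 * T.m 1 + 2 * T.m 2 = 2 * T.m 3 := by
                    have h := C.row 3
                    simp [Fin.sum_univ_four] at h
                    rw [e30, e31, e32] at h
                    linarith
                  have hb01 : T.a 0 1 = 0 * T.w 0 := by have h := C.hb 0 1 (by decide); rw [e01] at h; exact h
                  have hb02 : T.a 0 2 = 1 * T.w 0 := by have h := C.hb 0 2 (by decide); rw [e02] at h; exact h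
                  have hb03 : T.a 0 3 = 0 * T.w 0 := by have h := C.hb 0 3 (by decide); rw [e03] at h; exact h
                  have hb10 : T.a 1 0 = 0 * T.w 1 := by have h := C.hb 1 0 (by decide); rw [e10] at h; exact h
                  have hb12 : T.a 1 2 = 1 * T.w 1 := by have h := C.hb 1 2 (by decide); rw [e12] at h; exact h
                  have hb13 : T.a 1 3 = 0 * T.w 1 := by have h := C.hb 1 3 (by decide); rw [e13] at h; exact h
                  have hb20 : T.a 2 0 = 1 * T.w 2 := by have h := C.hb 2 0 (by decide); rw [e20] at h; exact h
                  have hb21 : T.a 2 1 = 1 * T.w 2 := by have h := C.hb 2 1 (by decide); rw [e21] at h; exact h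
                  have hb23 : T.a 2 3 = 1 * T.w 2 := by have h := C.hb 2 3 (by decide); rw [e23] at h; exact h
                  have hb30 : T.a 3 0 = 0 * T.w 3 := by have h := C.hb 3 0 (by decide); rw [e30] at h; exact h
                  have hb31 : T.a 3 1 = 0 * T.w 3 := by have h := C.hb 3 1 (by decide); rw [e31] at h; exact h
                  have hb32 : T.a 3 2 = 2 * T.w 3 := by have h := C.hb 3 2 (by decide); rw [e32] at h; exact h
                  have r01 : 0 * T.w 0 = 0 * T.w 1 := by have h := C.rel (by decide : (0 : Fin 4) ≠ 1); rw [e01, e10] at h; exact h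
                  have r02 : 1 * T.w 0 = 1 * T.w 2 := by have h := C.rel (by decide : (0 : Fin 4) ≠ 2); rw [e02, e20] at h; exact h
                  have r03 : 0 * T.w 0 = 0 * T.w 3 := by have h := C.rel (by decide : (0 : Fin 4) ≠ 3); rw [e03, e30] at h; exact h
                  have r12 : 1 * T.w 1 = 1 * T.w 2 := by have h := C.rel (by decide : (1 : Fin 4) ≠ 2); rw [e12, e21] at h; exact h
                  have r13 : 0 * T.w 1 = 0 * T.w 3 := by have h := C.rel (by decide : (1 : Fin 4) ≠ 3); rw [e13, e31] at h; exact h
                  have r23 : 1 * T.w 2 = 2 * T.w 3 := by have h := C.rel (by decide : (2 : Fin 4) ≠ 3); rw [e23, e32] at h; exact h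
                  have d0 := C.diag 0
                  have d1 := C.diag 1
                  have d2 := C.diag 2
                  have d3 := C.diag 3
                  obtain ⟨σ, s0, s1, s2, s3⟩ : ∃ σ : Equiv.Perm (Fin 4), σ 0 = 2 ∧ σ 1 = 0 ∧ σ 2 = 1 ∧ σ 3 = 3 :=
                    ⟨⟨![2, 0, 1, 3], ![1, 2, 0, 3], by decide, by decide⟩, rfl, rfl, rfl, rfl⟩
                  refine ⟨fun i => (C.hm2 i).1, σ, T.m 0, T.w 3, ?_⟩
                  rw [s0, s1, s2, s3]
                  refine Or.inr (Or.inr (Or.inr (Or.inr (Or.inr (?_)))))
                  refine ⟨by linarith, by linarith, by linarith, by linarith, by linarith, by linarith, by linarith, by linarith, by linarith, by linarith, by linarith, by linarith, by linarith, by linarith, by linarith, by linarith, by linarith, by linarith⟩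
                · have L32 : 3 ≤ b 3 2 := by omega
                  exact (C.too_big ![![0, 0, 1, 0], ![0, 0, 1, 0], ![1, 1, 0, 1], ![0, 0, 3, 0]] (fun s t hst => by fin_cases s <;> fin_cases t <;> first | exact absurd rfl hst | assumption)
                    ![0, 1, 2, 3] (by decide) (by decide) (by decide) (by decide)).elim
            · have L23 : 2 ≤ b 2 3 := by omega
              rcases le_or_gt (b 2 3) 2 with hc | hc
              · have U23 : b 2 3 ≤ 2 := hc
                rcases le_or_gt (b 3 2) 1 with hc | hc
                · have U32 : b 3 2 ≤ 1 := hc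
                  have e01 : b 0 1 = 0 := le_antisymm U01 L01
                  have e02 : b 0 2 = 1 := le_antisymm U02 L02
                  have e03 : b 0 3 = 0 := le_antisymm U03 L03
                  have e10 : b 1 0 = 0 := le_antisymm U10 L10
                  have e12 : b 1 2 = 1 := le_antisymm U12 L12
                  have e13 : b 1 3 = 0 := le_antisymm U13 L13
                  have e20 : b 2 0 = 1 := le_antisymm U20 L20
                  have e21 : b 2 1 = 1 := le_antisymm U21 L21
                  have e23 : b 2 3 = 2 := le_antisymm U23 L23
                  have e30 : b 3 0 = 0 := le_antisymm U30 L30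
                  have e31 : b 3 1 = 0 := le_antisymm U31 L31
                  have e32 : b 3 2 = 1 := le_antisymm U32 L32
                  have row0 : 0 * T.m 1 + 1 * T.m 2 + 0 * T.m 3 = 2 * T.m 0 := by
                    have h := C.row 0
                    simp [Fin.sum_univ_four] at h
                    rw [e01, e02, e03] at h
                    linarith
                  have row1 : 0 * T.m 0 + 1 * T.m 2 + 0 * T.m 3 = 2 * T.m 1 := by
                    have h := C.row 1
                    simp [Fin.sum_univ_four] at h
                    rw [e10, e12, e13] at h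
                    linarith
                  have row2 : 1 * T.m 0 + 1 * T.m 1 + 2 * T.m 3 = 2 * T.m 2 := by
                    have h := C.row 2
                    simp [Fin.sum_univ_four] at h
                    rw [e20, e21, e23] at h
                    linarith
                  have row3 : 0 * T.m 0 + 0 * T.m 1 + 1 * T.m 2 = 2 * T.m 3 := by
                    have h := C.row 3
                    simp [Fin.sum_univ_four] at h
                    rw [e30, e31, e32] at h
                    linarith
                  have hb01 : T.a 0 1 = 0 * T.w 0 := by have h := C.hb 0 1 (by decide); rw [e01] at h; exact h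
                  have hb02 : T.a 0 2 = 1 * T.w 0 := by have h := C.hb 0 2 (by decide); rw [e02] at h; exact h
                  have hb03 : T.a 0 3 = 0 * T.w 0 := by have h := C.hb 0 3 (by decide); rw [e03] at h; exact h
                  have hb10 : T.a 1 0 = 0 * T.w 1 := by have h := C.hb 1 0 (by decide); rw [e10] at h; exact h
                  have hb12 : T.a 1 2 = 1 * T.w 1 := by have h := C.hb 1 2 (by decide); rw [e12] at h; exact h
                  have hb13 : T.a 1 3 = 0 * T.w 1 := by have h := C.hb 1 3 (by decide); rw [e13] at h; exact h
                  have hb20 : T.a 2 0 = 1 * T.w 2 := by have h := C.hb 2 0 (by decide); rw [e20] at h; exact h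
                  have hb21 : T.a 2 1 = 1 * T.w 2 := by have h := C.hb 2 1 (by decide); rw [e21] at h; exact h
                  have hb23 : T.a 2 3 = 2 * T.w 2 := by have h := C.hb 2 3 (by decide); rw [e23] at h; exact h
                  have hb30 : T.a 3 0 = 0 * T.w 3 := by have h := C.hb 3 0 (by decide); rw [e30] at h; exact h
                  have hb31 : T.a 3 1 = 0 * T.w 3 := by have h := C.hb 3 1 (by decide); rw [e31] at h; exact h
                  have hb32 : T.a 3 2 = 1 * T.w 3 := by have h := C.hb 3 2 (by decide); rw [e32] at h; exact h
                  have r01 : 0 * T.w 0 = 0 * T.w 1 := by have h := C.rel (by decide : (0 : Fin 4) ≠ 1); rw [e01, e10] at h; exact h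
                  have r02 : 1 * T.w 0 = 1 * T.w 2 := by have h := C.rel (by decide : (0 : Fin 4) ≠ 2); rw [e02, e20] at h; exact h
                  have r03 : 0 * T.w 0 = 0 * T.w 3 := by have h := C.rel (by decide : (0 : Fin 4) ≠ 3); rw [e03, e30] at h; exact h
                  have r12 : 1 * T.w 1 = 1 * T.w 2 := by have h := C.rel (by decide : (1 : Fin 4) ≠ 2); rw [e12, e21] at h; exact h
                  have r13 : 0 * T.w 1 = 0 * T.w 3 := by have h := C.rel (by decide : (1 : Fin 4) ≠ 3); rw [e13, e31] at h; exact h
                  have r23 : 2 * T.w 2 = 1 * T.w 3 := by have h := C.rel (by decide : (2 : Fin 4) ≠ 3); rw [e23, e32] at h; exact h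
                  have d0 := C.diag 0
                  have d1 := C.diag 1
                  have d2 := C.diag 2
                  have d3 := C.diag 3
                  obtain ⟨σ, s0, s1, s2, s3⟩ : ∃ σ : Equiv.Perm (Fin 4), σ 0 = 2 ∧ σ 1 = 0 ∧ σ 2 = 1 ∧ σ 3 = 3 :=
                    ⟨⟨![2, 0, 1, 3], ![1, 2, 0, 3], by decide, by decide⟩, rfl, rfl, rfl, rfl⟩
                  refine ⟨fun i => (C.hm2 i).1, σ, T.m 0, T.w 2, ?_⟩
                  rw [s0, s1, s2, s3]
                  refine Or.inr (Or.inr (Or.inr (Or.inr (Or.inl ?_))))
                  refine ⟨by linarith, by linarith, by linarith, by linarith, by linarith, by linarith, by linarith, by linarith, by linarith, by linarith, by linarith, by linarith, by linarith, by linarith, by linarith, by linarith, by linarith, by linarith⟩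
                · have L32 : 2 ≤ b 3 2 := by omega
                  exact (C.too_big ![![0, 0, 1, 0], ![0, 0, 1, 0], ![1, 1, 0, 2], ![0, 0, 2, 0]] (fun s t hst => by fin_cases s <;> fin_cases t <;> first | exact absurd rfl hst | assumption)
                    ![0, 1, 2, 2] (by decide) (by decide) (by decide) (by decide)).elim
              · have L23 : 3 ≤ b 2 3 := by omega
                exact (C.too_big ![![0, 0, 1, 0], ![0, 0, 1, 0], ![1, 1, 0, 3], ![0, 0, 1, 0]] (fun s t hst => by fin_cases s <;> fin_cases t <;> first | exact absurd rfl hst | assumption)
                  ![0, 1, 2, 1] (by decide) (by decide) (by decide) (by decide)).elim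
        · have L21 : 2 ≤ b 2 1 := by omega
          rcases le_or_gt (b 2 1) 2 with hc | hc
          · have U21 : b 2 1 ≤ 2 := hc
            rcases le_or_gt (b 2 3) 0 with hc | hc
            · have U23 : b 2 3 ≤ 0 := hc
              have U32 : b 3 2 ≤ 0 := C.le_zero_symm (by decide) hc
              exact (C.too_small ![![0, 0, 1, 0], ![0, 0, 1, 0], ![1, 2, 0, 0], ![0, 0, 0, 0]] (fun s t hst => by fin_cases s <;> fin_cases t <;> first | exact absurd rfl hst | assumption)
                ![1, 1, 2, 1] (by decide) (by decide) (by decide)).elim
            · have L23 : 1 ≤ b 2 3 := by omega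
              have L32 : 1 ≤ b 3 2 := C.pos_symm (by decide) (by omega)
              rcases le_or_gt (b 2 3) 1 with hc | hc
              · have U23 : b 2 3 ≤ 1 := hc
                rcases le_or_gt (b 3 2) 1 with hc | hc
                · have U32 : b 3 2 ≤ 1 := hc
                  have e01 : b 0 1 = 0 := le_antisymm U01 L01
                  have e02 : b 0 2 = 1 := le_antisymm U02 L02
                  have e03 : b 0 3 = 0 := le_antisymm U03 L03
                  have e10 : b 1 0 = 0 := le_antisymm U10 L10
                  have e12 : b 1 2 = 1 := le_antisymm U12 L12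
                  have e13 : b 1 3 = 0 := le_antisymm U13 L13
                  have e20 : b 2 0 = 1 := le_antisymm U20 L20
                  have e21 : b 2 1 = 2 := le_antisymm U21 L21
                  have e23 : b 2 3 = 1 := le_antisymm U23 L23
                  have e30 : b 3 0 = 0 := le_antisymm U30 L30
                  have e31 : b 3 1 = 0 := le_antisymm U31 L31
                  have e32 : b 3 2 = 1 := le_antisymm U32 L32
                  have row0 : 0 * T.m 1 + 1 * T.m 2 + 0 * T.m 3 = 2 * T.m 0 := by
                    have h := C.row 0
                    simp [Fin.sum_univ_four] at h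
                    rw [e01, e02, e03] at h
                    linarith
                  have row1 : 0 * T.m 0 + 1 * T.m 2 + 0 * T.m 3 = 2 * T.m 1 := by
                    have h := C.row 1
                    simp [Fin.sum_univ_four] at h
                    rw [e10, e12, e13] at h
                    linarith
                  have row2 : 1 * T.m 0 + 2 * T.m 1 + 1 * T.m 3 = 2 * T.m 2 := by
                    have h := C.row 2
                    simp [Fin.sum_univ_four] at h
                    rw [e20, e21, e23] at h
                    linarith
                  have row3 : 0 * T.m 0 + 0 * T.m 1 + 1 * T.m 2 = 2 * T.m 3 := by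
                    have h := C.row 3
                    simp [Fin.sum_univ_four] at h
                    rw [e30, e31, e32] at h
                    linarith
                  have hb01 : T.a 0 1 = 0 * T.w 0 := by have h := C.hb 0 1 (by decide); rw [e01] at h; exact h
                  have hb02 : T.a 0 2 = 1 * T.w 0 := by have h := C.hb 0 2 (by decide); rw [e02] at h; exact h
                  have hb03 : T.a 0 3 = 0 * T.w 0 := by have h := C.hb 0 3 (by decide); rw [e03] at h; exact h
                  have hb10 : T.a 1 0 = 0 * T.w 1 := by have h := C.hb 1 0 (by decide); rw [e10] at h; exact h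
                  have hb12 : T.a 1 2 = 1 * T.w 1 := by have h := C.hb 1 2 (by decide); rw [e12] at h; exact h
                  have hb13 : T.a 1 3 = 0 * T.w 1 := by have h := C.hb 1 3 (by decide); rw [e13] at h; exact h
                  have hb20 : T.a 2 0 = 1 * T.w 2 := by have h := C.hb 2 0 (by decide); rw [e20] at h; exact h
                  have hb21 : T.a 2 1 = 2 * T.w 2 := by have h := C.hb 2 1 (by decide); rw [e21] at h; exact h
                  have hb23 : T.a 2 3 = 1 * T.w 2 := by have h := C.hb 2 3 (by decide); rw [e23] at h; exact h
                  have hb30 : T.a 3 0 = 0 * T.w 3 := by have h := C.hb 3 0 (by decide); rw [e30] at h; exact h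
                  have hb31 : T.a 3 1 = 0 * T.w 3 := by have h := C.hb 3 1 (by decide); rw [e31] at h; exact h
                  have hb32 : T.a 3 2 = 1 * T.w 3 := by have h := C.hb 3 2 (by decide); rw [e32] at h; exact h
                  have r01 : 0 * T.w 0 = 0 * T.w 1 := by have h := C.rel (by decide : (0 : Fin 4) ≠ 1); rw [e01, e10] at h; exact h
                  have r02 : 1 * T.w 0 = 1 * T.w 2 := by have h := C.rel (by decide : (0 : Fin 4) ≠ 2); rw [e02, e20] at h; exact h
                  have r03 : 0 * T.w 0 = 0 * T.w 3 := by have h := C.rel (by decide : (0 : Fin 4) ≠ 3); rw [e03, e30] at h; exact h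
                  have r12 : 1 * T.w 1 = 2 * T.w 2 := by have h := C.rel (by decide : (1 : Fin 4) ≠ 2); rw [e12, e21] at h; exact h
                  have r13 : 0 * T.w 1 = 0 * T.w 3 := by have h := C.rel (by decide : (1 : Fin 4) ≠ 3); rw [e13, e31] at h; exact h
                  have r23 : 1 * T.w 2 = 1 * T.w 3 := by have h := C.rel (by decide : (2 : Fin 4) ≠ 3); rw [e23, e32] at h; exact h
                  have d0 := C.diag 0
                  have d1 := C.diag 1
                  have d2 := C.diag 2
                  have d3 := C.diag 3
                  obtain ⟨σ, s0, s1, s2, s3⟩ : ∃ σ : Equiv.Perm (Fin 4), σ 0 = 2 ∧ σ 1 = 0 ∧ σ 2 = 3 ∧ σ 3 = 1 :=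
                    ⟨⟨![2, 0, 3, 1], ![1, 3, 0, 2], by decide, by decide⟩, rfl, rfl, rfl, rfl⟩
                  refine ⟨fun i => (C.hm2 i).1, σ, T.m 0, T.w 2, ?_⟩
                  rw [s0, s1, s2, s3]
                  refine Or.inr (Or.inr (Or.inr (Or.inr (Or.inl ?_))))
                  refine ⟨by linarith, by linarith, by linarith, by linarith, by linarith, by linarith, by linarith, by linarith, by linarith, by linarith, by linarith, by linarith, by linarith, by linarith, by linarith, by linarith, by linarith, by linarith⟩
                · have L32 : 2 ≤ b 3 2 := by omega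
                  exact (C.too_big ![![0, 0, 1, 0], ![0, 0, 1, 0], ![1, 2, 0, 1], ![0, 0, 2, 0]] (fun s t hst => by fin_cases s <;> fin_cases t <;> first | exact absurd rfl hst | assumption)
                    ![0, 1, 2, 2] (by decide) (by decide) (by decide) (by decide)).elim
              · have L23 : 2 ≤ b 2 3 := by omega
                exact (C.too_big ![![0, 0, 1, 0], ![0, 0, 1, 0], ![1, 2, 0, 2], ![0, 0, 1, 0]] (fun s t hst => by fin_cases s <;> fin_cases t <;> first | exact absurd rfl hst | assumption)
                  ![0, 1, 2, 1] (by decide) (by decide) (by decide) (by decide)).elim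
          · have L21 : 3 ≤ b 2 1 := by omega
            exact (C.too_big ![![0, 0, 1, 0], ![0, 0, 1, 0], ![1, 3, 0, 0], ![0, 0, 0, 0]] (fun s t hst => by fin_cases s <;> fin_cases t <;> first | exact absurd rfl hst | assumption)
              ![1, 1, 2, 0] (by decide) (by decide) (by decide) (by decide)).elim
      · have L20 : 2 ≤ b 2 0 := by omega
        rcases le_or_gt (b 2 0) 2 with hc | hc
        · have U20 : b 2 0 ≤ 2 := hc
          rcases le_or_gt (b 2 1) 1 with hc | hc
          · have U21 : b 2 1 ≤ 1 := hc
            rcases le_or_gt (b 2 3) 0 with hc | hc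
            · have U23 : b 2 3 ≤ 0 := hc
              have U32 : b 3 2 ≤ 0 := C.le_zero_symm (by decide) hc
              exact (C.too_small ![![0, 0, 1, 0], ![0, 0, 1, 0], ![2, 1, 0, 0], ![0, 0, 0, 0]] (fun s t hst => by fin_cases s <;> fin_cases t <;> first | exact absurd rfl hst | assumption)
                ![1, 1, 2, 1] (by decide) (by decide) (by decide)).elim
            · have L23 : 1 ≤ b 2 3 := by omega
              have L32 : 1 ≤ b 3 2 := C.pos_symm (by decide) (by omega)
              rcases le_or_gt (b 2 3) 1 with hc | hc
              · have U23 : b 2 3 ≤ 1 := hc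
                rcases le_or_gt (b 3 2) 1 with hc | hc
                · have U32 : b 3 2 ≤ 1 := hc
                  have e01 : b 0 1 = 0 := le_antisymm U01 L01
                  have e02 : b 0 2 = 1 := le_antisymm U02 L02
                  have e03 : b 0 3 = 0 := le_antisymm U03 L03
                  have e10 : b 1 0 = 0 := le_antisymm U10 L10
                  have e12 : b 1 2 = 1 := le_antisymm U12 L12
                  have e13 : b 1 3 = 0 := le_antisymm U13 L13
                  have e20 : b 2 0 = 2 := le_antisymm U20 L20
                  have e21 : b 2 1 = 1 := le_antisymm U21 L21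
                  have e23 : b 2 3 = 1 := le_antisymm U23 L23
                  have e30 : b 3 0 = 0 := le_antisymm U30 L30
                  have e31 : b 3 1 = 0 := le_antisymm U31 L31
                  have e32 : b 3 2 = 1 := le_antisymm U32 L32
                  have row0 : 0 * T.m 1 + 1 * T.m 2 + 0 * T.m 3 = 2 * T.m 0 := by
                    have h := C.row 0
                    simp [Fin.sum_univ_four] at h
                    rw [e01, e02, e03] at h
                    linarith
                  have row1 : 0 * T.m 0 + 1 * T.m 2 + 0 * T.m 3 = 2 * T.m 1 := by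
                    have h := C.row 1
                    simp [Fin.sum_univ_four] at h
                    rw [e10, e12, e13] at h
                    linarith
                  have row2 : 2 * T.m 0 + 1 * T.m 1 + 1 * T.m 3 = 2 * T.m 2 := by
                    have h := C.row 2
                    simp [Fin.sum_univ_four] at h
                    rw [e20, e21, e23] at h
                    linarith
                  have row3 : 0 * T.m 0 + 0 * T.m 1 + 1 * T.m 2 = 2 * T.m 3 := by
                    have h := C.row 3
                    simp [Fin.sum_univ_four] at h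
                    rw [e30, e31, e32] at h
                    linarith
                  have hb01 : T.a 0 1 = 0 * T.w 0 := by have h := C.hb 0 1 (by decide); rw [e01] at h; exact h
                  have hb02 : T.a 0 2 = 1 * T.w 0 := by have h := C.hb 0 2 (by decide); rw [e02] at h; exact h
                  have hb03 : T.a 0 3 = 0 * T.w 0 := by have h := C.hb 0 3 (by decide); rw [e03] at h; exact h
                  have hb10 : T.a 1 0 = 0 * T.w 1 := by have h := C.hb 1 0 (by decide); rw [e10] at h; exact h
                  have hb12 : T.a 1 2 = 1 * T.w 1 := by have h := C.hb 1 2 (by decide); rw [e12] at h; exact h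
                  have hb13 : T.a 1 3 = 0 * T.w 1 := by have h := C.hb 1 3 (by decide); rw [e13] at h; exact h
                  have hb20 : T.a 2 0 = 2 * T.w 2 := by have h := C.hb 2 0 (by decide); rw [e20] at h; exact h
                  have hb21 : T.a 2 1 = 1 * T.w 2 := by have h := C.hb 2 1 (by decide); rw [e21] at h; exact h
                  have hb23 : T.a 2 3 = 1 * T.w 2 := by have h := C.hb 2 3 (by decide); rw [e23] at h; exact h
                  have hb30 : T.a 3 0 = 0 * T.w 3 := by have h := C.hb 3 0 (by decide); rw [e30] at h; exact h
                  have hb31 : T.a 3 1 = 0 * T.w 3 := by have h := C.hb 3 1 (by decide); rw [e31] at h; exact h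
                  have hb32 : T.a 3 2 = 1 * T.w 3 := by have h := C.hb 3 2 (by decide); rw [e32] at h; exact h
                  have r01 : 0 * T.w 0 = 0 * T.w 1 := by have h := C.rel (by decide : (0 : Fin 4) ≠ 1); rw [e01, e10] at h; exact h
                  have r02 : 1 * T.w 0 = 2 * T.w 2 := by have h := C.rel (by decide : (0 : Fin 4) ≠ 2); rw [e02, e20] at h; exact h
                  have r03 : 0 * T.w 0 = 0 * T.w 3 := by have h := C.rel (by decide : (0 : Fin 4) ≠ 3); rw [e03, e30] at h; exact h
                  have r12 : 1 * T.w 1 = 1 * T.w 2 := by have h := C.rel (by decide : (1 : Fin 4) ≠ 2); rw [e12, e21] at h; exact h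
                  have r13 : 0 * T.w 1 = 0 * T.w 3 := by have h := C.rel (by decide : (1 : Fin 4) ≠ 3); rw [e13, e31] at h; exact h
                  have r23 : 1 * T.w 2 = 1 * T.w 3 := by have h := C.rel (by decide : (2 : Fin 4) ≠ 3); rw [e23, e32] at h; exact h
                  have d0 := C.diag 0
                  have d1 := C.diag 1
                  have d2 := C.diag 2
                  have d3 := C.diag 3
                  obtain ⟨σ, s0, s1, s2, s3⟩ : ∃ σ : Equiv.Perm (Fin 4), σ 0 = 2 ∧ σ 1 = 1 ∧ σ 2 = 3 ∧ σ 3 = 0 :=
                    ⟨⟨![2, 1, 3, 0], ![3, 1, 0, 2], by decide, by decide⟩, rfl, rfl, rfl, rfl⟩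
                  refine ⟨fun i => (C.hm2 i).1, σ, T.m 1, T.w 2, ?_⟩
                  rw [s0, s1, s2, s3]
                  refine Or.inr (Or.inr (Or.inr (Or.inr (Or.inl ?_))))
                  refine ⟨by linarith, by linarith, by linarith, by linarith, by linarith, by linarith, by linarith, by linarith, by linarith, by linarith, by linarith, by linarith, by linarith, by linarith, by linarith, by linarith, by linarith, by linarith⟩
                · have L32 : 2 ≤ b 3 2 := by omega
                  exact (C.too_big ![![0, 0, 1, 0], ![0, 0, 1, 0], ![2, 1, 0, 1], ![0, 0, 2, 0]] (fun s t hst => by fin_cases s <;> fin_cases t <;> first | exact absurd rfl hst | assumption)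
                    ![1, 0, 2, 2] (by decide) (by decide) (by decide) (by decide)).elim
              · have L23 : 2 ≤ b 2 3 := by omega
                exact (C.too_big ![![0, 0, 1, 0], ![0, 0, 1, 0], ![2, 1, 0, 2], ![0, 0, 1, 0]] (fun s t hst => by fin_cases s <;> fin_cases t <;> first | exact absurd rfl hst | assumption)
                  ![1, 0, 2, 1] (by decide) (by decide) (by decide) (by decide)).elim
          · have L21 : 2 ≤ b 2 1 := by omega
            exact (C.too_big ![![0, 0, 1, 0], ![0, 0, 1, 0], ![2, 2, 0, 0], ![0, 0, 0, 0]] (fun s t hst => by fin_cases s <;> fin_cases t <;> first | exact absurd rfl hst | assumption)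
              ![1, 1, 2, 0] (by decide) (by decide) (by decide) (by decide)).elim
        · have L20 : 3 ≤ b 2 0 := by omega
          exact (C.too_big ![![0, 0, 1, 0], ![0, 0, 1, 0], ![3, 1, 0, 0], ![0, 0, 0, 0]] (fun s t hst => by fin_cases s <;> fin_cases t <;> first | exact absurd rfl hst | assumption)
            ![1, 1, 2, 0] (by decide) (by decide) (by decide) (by decide)).elim
    · have L13 : 1 ≤ b 1 3 := by omega
      have L31 : 1 ≤ b 3 1 := C.pos_symm (by decide) (by omega)
      rcases le_or_gt (b 1 3) 1 with hc | hc
      · have U13 : b 1 3 ≤ 1 := hc
        rcases le_or_gt (b 2 0) 1 with hc | hc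
        · have U20 : b 2 0 ≤ 1 := hc
          rcases le_or_gt (b 2 1) 1 with hc | hc
          · have U21 : b 2 1 ≤ 1 := hc
            rcases le_or_gt (b 2 3) 0 with hc | hc
            · have U23 : b 2 3 ≤ 0 := hc
              have U32 : b 3 2 ≤ 0 := C.le_zero_symm (by decide) hc
              rcases le_or_gt (b 3 1) 1 with hc | hc
              · have U31 : b 3 1 ≤ 1 := hc
                exact (C.too_small ![![0, 0, 1, 0], ![0, 0, 1, 1], ![1, 1, 0, 0], ![0, 1, 0, 0]] (fun s t hst => by fin_cases s <;> fin_cases t <;> first | exact absurd rfl hst | assumption)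
                  ![1, 2, 2, 1] (by decide) (by decide) (by decide)).elim
              · have L31 : 2 ≤ b 3 1 := by omega
                rcases le_or_gt (b 3 1) 2 with hc | hc
                · have U31 : b 3 1 ≤ 2 := hc
                  exact (C.too_small ![![0, 0, 1, 0], ![0, 0, 1, 1], ![1, 1, 0, 0], ![0, 2, 0, 0]] (fun s t hst => by fin_cases s <;> fin_cases t <;> first | exact absurd rfl hst | assumption)
                    ![2, 5, 4, 5] (by decide) (by decide) (by decide)).elim
                · have L31 : 3 ≤ b 3 1 := by omega
                  exact (C.too_big ![![0, 0, 1, 0], ![0, 0, 1, 1], ![1, 1, 0, 0], ![0, 3, 0, 0]] (fun s t hst => by fin_cases s <;> fin_cases t <;> first | exact absurd rfl hst | assumption)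
                    ![0, 2, 1, 3] (by decide) (by decide) (by decide) (by decide)).elim
            · have L23 : 1 ≤ b 2 3 := by omega
              have L32 : 1 ≤ b 3 2 := C.pos_symm (by decide) (by omega)
              exact (C.too_big ![![0, 0, 1, 0], ![0, 0, 1, 1], ![1, 1, 0, 1], ![0, 1, 1, 0]] (fun s t hst => by fin_cases s <;> fin_cases t <;> first | exact absurd rfl hst | assumption)
                ![0, 1, 1, 1] (by decide) (by decide) (by decide) (by decide)).elim
          · have L21 : 2 ≤ b 2 1 := by omega
            rcases le_or_gt (b 2 1) 2 with hc | hc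
            · have U21 : b 2 1 ≤ 2 := hc
              rcases le_or_gt (b 2 3) 0 with hc | hc
              · have U23 : b 2 3 ≤ 0 := hc
                have U32 : b 3 2 ≤ 0 := C.le_zero_symm (by decide) hc
                rcases le_or_gt (b 3 1) 1 with hc | hc
                · have U31 : b 3 1 ≤ 1 := hc
                  exact (C.too_small ![![0, 0, 1, 0], ![0, 0, 1, 1], ![1, 2, 0, 0], ![0, 1, 0, 0]] (fun s t hst => by fin_cases s <;> fin_cases t <;> first | exact absurd rfl hst | assumption)
                    ![4, 6, 8, 3] (by decide) (by decide) (by decide)).elim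
                · have L31 : 2 ≤ b 3 1 := by omega
                  exact (C.too_big ![![0, 0, 1, 0], ![0, 0, 1, 1], ![1, 2, 0, 0], ![0, 2, 0, 0]] (fun s t hst => by fin_cases s <;> fin_cases t <;> first | exact absurd rfl hst | assumption)
                    ![0, 1, 1, 1] (by decide) (by decide) (by decide) (by decide)).elim
              · have L23 : 1 ≤ b 2 3 := by omega
                have L32 : 1 ≤ b 3 2 := C.pos_symm (by decide) (by omega)
                exact (C.too_big ![![0, 0, 1, 0], ![0, 0, 1, 1], ![1, 2, 0, 1], ![0, 1, 1, 0]] (fun s t hst => by fin_cases s <;> fin_cases t <;> first | exact absurd rfl hst | assumption)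
                  ![0, 1, 1, 1] (by decide) (by decide) (by decide) (by decide)).elim
            · have L21 : 3 ≤ b 2 1 := by omega
              exact (C.too_big ![![0, 0, 1, 0], ![0, 0, 1, 1], ![1, 3, 0, 0], ![0, 1, 0, 0]] (fun s t hst => by fin_cases s <;> fin_cases t <;> first | exact absurd rfl hst | assumption)
                ![0, 2, 3, 1] (by decide) (by decide) (by decide) (by decide)).elim
        · have L20 : 2 ≤ b 2 0 := by omega
          rcases le_or_gt (b 2 0) 2 with hc | hc
          · have U20 : b 2 0 ≤ 2 := hc
            rcases le_or_gt (b 2 1) 1 with hc | hc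
            · have U21 : b 2 1 ≤ 1 := hc
              rcases le_or_gt (b 2 3) 0 with hc | hc
              · have U23 : b 2 3 ≤ 0 := hc
                have U32 : b 3 2 ≤ 0 := C.le_zero_symm (by decide) hc
                rcases le_or_gt (b 3 1) 1 with hc | hc
                · have U31 : b 3 1 ≤ 1 := hc
                  exact (C.too_small ![![0, 0, 1, 0], ![0, 0, 1, 1], ![2, 1, 0, 0], ![0, 1, 0, 0]] (fun s t hst => by fin_cases s <;> fin_cases t <;> first | exact absurd rfl hst | assumption)
                    ![1, 2, 2, 1] (by decide) (by decide) (by decide)).elim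
                · have L31 : 2 ≤ b 3 1 := by omega
                  rcases le_or_gt (b 3 1) 2 with hc | hc
                  · have U31 : b 3 1 ≤ 2 := hc
                    have e01 : b 0 1 = 0 := le_antisymm U01 L01
                    have e02 : b 0 2 = 1 := le_antisymm U02 L02
                    have e03 : b 0 3 = 0 := le_antisymm U03 L03
                    have e10 : b 1 0 = 0 := le_antisymm U10 L10
                    have e12 : b 1 2 = 1 := le_antisymm U12 L12
                    have e13 : b 1 3 = 1 := le_antisymm U13 L13
                    have e20 : b 2 0 = 2 := le_antisymm U20 L20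
                    have e21 : b 2 1 = 1 := le_antisymm U21 L21
                    have e23 : b 2 3 = 0 := le_antisymm U23 L23
                    have e30 : b 3 0 = 0 := le_antisymm U30 L30
                    have e31 : b 3 1 = 2 := le_antisymm U31 L31
                    have e32 : b 3 2 = 0 := le_antisymm U32 L32
                    have row0 : 0 * T.m 1 + 1 * T.m 2 + 0 * T.m 3 = 2 * T.m 0 := by
                      have h := C.row 0
                      simp [Fin.sum_univ_four] at h
                      rw [e01, e02, e03] at h
                      linarith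
                    have row1 : 0 * T.m 0 + 1 * T.m 2 + 1 * T.m 3 = 2 * T.m 1 := by
                      have h := C.row 1
                      simp [Fin.sum_univ_four] at h
                      rw [e10, e12, e13] at h
                      linarith
                    have row2 : 2 * T.m 0 + 1 * T.m 1 + 0 * T.m 3 = 2 * T.m 2 := by
                      have h := C.row 2
                      simp [Fin.sum_univ_four] at h
                      rw [e20, e21, e23] at h
                      linarith
                    have row3 : 0 * T.m 0 + 2 * T.m 1 + 0 * T.m 2 = 2 * T.m 3 := by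
                      have h := C.row 3
                      simp [Fin.sum_univ_four] at h
                      rw [e30, e31, e32] at h
                      linarith
                    have hb01 : T.a 0 1 = 0 * T.w 0 := by have h := C.hb 0 1 (by decide); rw [e01] at h; exact h
                    have hb02 : T.a 0 2 = 1 * T.w 0 := by have h := C.hb 0 2 (by decide); rw [e02] at h; exact h
                    have hb03 : T.a 0 3 = 0 * T.w 0 := by have h := C.hb 0 3 (by decide); rw [e03] at h; exact h
                    have hb10 : T.a 1 0 = 0 * T.w 1 := by have h := C.hb 1 0 (by decide); rw [e10] at h; exact h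
                    have hb12 : T.a 1 2 = 1 * T.w 1 := by have h := C.hb 1 2 (by decide); rw [e12] at h; exact h
                    have hb13 : T.a 1 3 = 1 * T.w 1 := by have h := C.hb 1 3 (by decide); rw [e13] at h; exact h
                    have hb20 : T.a 2 0 = 2 * T.w 2 := by have h := C.hb 2 0 (by decide); rw [e20] at h; exact h
                    have hb21 : T.a 2 1 = 1 * T.w 2 := by have h := C.hb 2 1 (by decide); rw [e21] at h; exact h
                    have hb23 : T.a 2 3 = 0 * T.w 2 := by have h := C.hb 2 3 (by decide); rw [e23] at h; exact h
                    have hb30 : T.a 3 0 = 0 * T.w 3 := by have h := C.hb 3 0 (by decide); rw [e30] at h; exact h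
                    have hb31 : T.a 3 1 = 2 * T.w 3 := by have h := C.hb 3 1 (by decide); rw [e31] at h; exact h
                    have hb32 : T.a 3 2 = 0 * T.w 3 := by have h := C.hb 3 2 (by decide); rw [e32] at h; exact h
                    have r01 : 0 * T.w 0 = 0 * T.w 1 := by have h := C.rel (by decide : (0 : Fin 4) ≠ 1); rw [e01, e10] at h; exact h
                    have r02 : 1 * T.w 0 = 2 * T.w 2 := by have h := C.rel (by decide : (0 : Fin 4) ≠ 2); rw [e02, e20] at h; exact h
                    have r03 : 0 * T.w 0 = 0 * T.w 3 := by have h := C.rel (by decide : (0 : Fin 4) ≠ 3); rw [e03, e30] at h; exact h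
                    have r12 : 1 * T.w 1 = 1 * T.w 2 := by have h := C.rel (by decide : (1 : Fin 4) ≠ 2); rw [e12, e21] at h; exact h
                    have r13 : 1 * T.w 1 = 2 * T.w 3 := by have h := C.rel (by decide : (1 : Fin 4) ≠ 3); rw [e13, e31] at h; exact h
                    have r23 : 0 * T.w 2 = 0 * T.w 3 := by have h := C.rel (by decide : (2 : Fin 4) ≠ 3); rw [e23, e32] at h; exact h
                    have d0 := C.diag 0
                    have d1 := C.diag 1
                    have d2 := C.diag 2
                    have d3 := C.diag 3
                    obtain ⟨σ, s0, s1, s2, s3⟩ : ∃ σ : Equiv.Perm (Fin 4), σ 0 = 3 ∧ σ 1 = 1 ∧ σ 2 = 2 ∧ σ 3 = 0 :=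
                      ⟨⟨![3, 1, 2, 0], ![3, 1, 2, 0], by decide, by decide⟩, rfl, rfl, rfl, rfl⟩
                    refine ⟨fun i => (C.hm2 i).1, σ, T.m 0, T.w 3, ?_⟩
                    rw [s0, s1, s2, s3]
                    refine Or.inr (Or.inl ?_)
                    refine ⟨by linarith, by linarith, by linarith, by linarith, by linarith, by linarith, by linarith, by linarith, by linarith, by linarith, by linarith, by linarith, by linarith, by linarith, by linarith, by linarith, by linarith, by linarith⟩
                  · have L31 : 3 ≤ b 3 1 := by omega
                    exact (C.too_big ![![0, 0, 1, 0], ![0, 0, 1, 1], ![2, 1, 0, 0], ![0, 3, 0, 0]] (fun s t hst => by fin_cases s <;> fin_cases t <;> first | exact absurd rfl hst | assumption)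
                      ![0, 2, 1, 3] (by decide) (by decide) (by decide) (by decide)).elim
              · have L23 : 1 ≤ b 2 3 := by omega
                have L32 : 1 ≤ b 3 2 := C.pos_symm (by decide) (by omega)
                exact (C.too_big ![![0, 0, 1, 0], ![0, 0, 1, 1], ![2, 1, 0, 1], ![0, 1, 1, 0]] (fun s t hst => by fin_cases s <;> fin_cases t <;> first | exact absurd rfl hst | assumption)
                  ![0, 1, 1, 1] (by decide) (by decide) (by decide) (by decide)).elim
            · have L21 : 2 ≤ b 2 1 := by omega
              exact (C.too_big ![![0, 0, 1, 0], ![0, 0, 1, 1], ![2, 2, 0, 0], ![0, 1, 0, 0]] (fun s t hst => by fin_cases s <;> fin_cases t <;> first | exact absurd rfl hst | assumption)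
                ![1, 1, 2, 0] (by decide) (by decide) (by decide) (by decide)).elim
          · have L20 : 3 ≤ b 2 0 := by omega
            exact (C.too_big ![![0, 0, 1, 0], ![0, 0, 1, 1], ![3, 1, 0, 0], ![0, 1, 0, 0]] (fun s t hst => by fin_cases s <;> fin_cases t <;> first | exact absurd rfl hst | assumption)
              ![1, 1, 2, 0] (by decide) (by decide) (by decide) (by decide)).elim
      · have L13 : 2 ≤ b 1 3 := by omega
        rcases le_or_gt (b 1 3) 2 with hc | hc
        · have U13 : b 1 3 ≤ 2 := hc
          rcases le_or_gt (b 2 0) 1 with hc | hc
          · have U20 : b 2 0 ≤ 1 := hc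
            rcases le_or_gt (b 2 1) 1 with hc | hc
            · have U21 : b 2 1 ≤ 1 := hc
              rcases le_or_gt (b 2 3) 0 with hc | hc
              · have U23 : b 2 3 ≤ 0 := hc
                have U32 : b 3 2 ≤ 0 := C.le_zero_symm (by decide) hc
                rcases le_or_gt (b 3 1) 1 with hc | hc
                · have U31 : b 3 1 ≤ 1 := hc
                  exact (C.too_small ![![0, 0, 1, 0], ![0, 0, 1, 2], ![1, 1, 0, 0], ![0, 1, 0, 0]] (fun s t hst => by fin_cases s <;> fin_cases t <;> first | exact absurd rfl hst | assumption)
                    ![1, 2, 2, 1] (by decide) (by decide) (by decide)).elim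
                · have L31 : 2 ≤ b 3 1 := by omega
                  exact (C.too_big ![![0, 0, 1, 0], ![0, 0, 1, 2], ![1, 1, 0, 0], ![0, 2, 0, 0]] (fun s t hst => by fin_cases s <;> fin_cases t <;> first | exact absurd rfl hst | assumption)
                    ![0, 2, 1, 2] (by decide) (by decide) (by decide) (by decide)).elim
              · have L23 : 1 ≤ b 2 3 := by omega
                have L32 : 1 ≤ b 3 2 := C.pos_symm (by decide) (by omega)
                exact (C.too_big ![![0, 0, 1, 0], ![0, 0, 1, 2], ![1, 1, 0, 1], ![0, 1, 1, 0]] (fun s t hst => by fin_cases s <;> fin_cases t <;> first | exact absurd rfl hst | assumption)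
                  ![0, 1, 1, 1] (by decide) (by decide) (by decide) (by decide)).elim
            · have L21 : 2 ≤ b 2 1 := by omega
              exact (C.too_big ![![0, 0, 1, 0], ![0, 0, 1, 2], ![1, 2, 0, 0], ![0, 1, 0, 0]] (fun s t hst => by fin_cases s <;> fin_cases t <;> first | exact absurd rfl hst | assumption)
                ![0, 2, 2, 1] (by decide) (by decide) (by decide) (by decide)).elim
          · have L20 : 2 ≤ b 2 0 := by omega
            rcases le_or_gt (b 2 0) 2 with hc | hc
            · have U20 : b 2 0 ≤ 2 := hc
              rcases le_or_gt (b 2 1) 1 with hc | hc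
              · have U21 : b 2 1 ≤ 1 := hc
                rcases le_or_gt (b 2 3) 0 with hc | hc
                · have U23 : b 2 3 ≤ 0 := hc
                  have U32 : b 3 2 ≤ 0 := C.le_zero_symm (by decide) hc
                  rcases le_or_gt (b 3 1) 1 with hc | hc
                  · have U31 : b 3 1 ≤ 1 := hc
                    have e01 : b 0 1 = 0 := le_antisymm U01 L01
                    have e02 : b 0 2 = 1 := le_antisymm U02 L02
                    have e03 : b 0 3 = 0 := le_antisymm U03 L03
                    have e10 : b 1 0 = 0 := le_antisymm U10 L10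
                    have e12 : b 1 2 = 1 := le_antisymm U12 L12
                    have e13 : b 1 3 = 2 := le_antisymm U13 L13
                    have e20 : b 2 0 = 2 := le_antisymm U20 L20
                    have e21 : b 2 1 = 1 := le_antisymm U21 L21
                    have e23 : b 2 3 = 0 := le_antisymm U23 L23
                    have e30 : b 3 0 = 0 := le_antisymm U30 L30
                    have e31 : b 3 1 = 1 := le_antisymm U31 L31
                    have e32 : b 3 2 = 0 := le_antisymm U32 L32
                    have row0 : 0 * T.m 1 + 1 * T.m 2 + 0 * T.m 3 = 2 * T.m 0 := by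
                      have h := C.row 0
                      simp [Fin.sum_univ_four] at h
                      rw [e01, e02, e03] at h
                      linarith
                    have row1 : 0 * T.m 0 + 1 * T.m 2 + 2 * T.m 3 = 2 * T.m 1 := by
                      have h := C.row 1
                      simp [Fin.sum_univ_four] at h
                      rw [e10, e12, e13] at h
                      linarith
                    have row2 : 2 * T.m 0 + 1 * T.m 1 + 0 * T.m 3 = 2 * T.m 2 := by
                      have h := C.row 2
                      simp [Fin.sum_univ_four] at h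
                      rw [e20, e21, e23] at h
                      linarith
                    have row3 : 0 * T.m 0 + 1 * T.m 1 + 0 * T.m 2 = 2 * T.m 3 := by
                      have h := C.row 3
                      simp [Fin.sum_univ_four] at h
                      rw [e30, e31, e32] at h
                      linarith
                    have hb01 : T.a 0 1 = 0 * T.w 0 := by have h := C.hb 0 1 (by decide); rw [e01] at h; exact h
                    have hb02 : T.a 0 2 = 1 * T.w 0 := by have h := C.hb 0 2 (by decide); rw [e02] at h; exact h
                    have hb03 : T.a 0 3 = 0 * T.w 0 := by have h := C.hb 0 3 (by decide); rw [e03] at h; exact h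
                    have hb10 : T.a 1 0 = 0 * T.w 1 := by have h := C.hb 1 0 (by decide); rw [e10] at h; exact h
                    have hb12 : T.a 1 2 = 1 * T.w 1 := by have h := C.hb 1 2 (by decide); rw [e12] at h; exact h
                    have hb13 : T.a 1 3 = 2 * T.w 1 := by have h := C.hb 1 3 (by decide); rw [e13] at h; exact h
                    have hb20 : T.a 2 0 = 2 * T.w 2 := by have h := C.hb 2 0 (by decide); rw [e20] at h; exact h
                    have hb21 : T.a 2 1 = 1 * T.w 2 := by have h := C.hb 2 1 (by decide); rw [e21] at h; exact h
                    have hb23 : T.a 2 3 = 0 * T.w 2 := by have h := C.hb 2 3 (by decide); rw [e23] at h; exact h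
                    have hb30 : T.a 3 0 = 0 * T.w 3 := by have h := C.hb 3 0 (by decide); rw [e30] at h; exact h
                    have hb31 : T.a 3 1 = 1 * T.w 3 := by have h := C.hb 3 1 (by decide); rw [e31] at h; exact h
                    have hb32 : T.a 3 2 = 0 * T.w 3 := by have h := C.hb 3 2 (by decide); rw [e32] at h; exact h
                    have r01 : 0 * T.w 0 = 0 * T.w 1 := by have h := C.rel (by decide : (0 : Fin 4) ≠ 1); rw [e01, e10] at h; exact h
                    have r02 : 1 * T.w 0 = 2 * T.w 2 := by have h := C.rel (by decide : (0 : Fin 4) ≠ 2); rw [e02, e20] at h; exact h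
                    have r03 : 0 * T.w 0 = 0 * T.w 3 := by have h := C.rel (by decide : (0 : Fin 4) ≠ 3); rw [e03, e30] at h; exact h
                    have r12 : 1 * T.w 1 = 1 * T.w 2 := by have h := C.rel (by decide : (1 : Fin 4) ≠ 2); rw [e12, e21] at h; exact h
                    have r13 : 2 * T.w 1 = 1 * T.w 3 := by have h := C.rel (by decide : (1 : Fin 4) ≠ 3); rw [e13, e31] at h; exact h
                    have r23 : 0 * T.w 2 = 0 * T.w 3 := by have h := C.rel (by decide : (2 : Fin 4) ≠ 3); rw [e23, e32] at h; exact h
                    have d0 := C.diag 0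
                    have d1 := C.diag 1
                    have d2 := C.diag 2
                    have d3 := C.diag 3
                    obtain ⟨σ, s0, s1, s2, s3⟩ : ∃ σ : Equiv.Perm (Fin 4), σ 0 = 0 ∧ σ 1 = 2 ∧ σ 2 = 1 ∧ σ 3 = 3 :=
                      ⟨⟨![0, 2, 1, 3], ![0, 2, 1, 3], by decide, by decide⟩, rfl, rfl, rfl, rfl⟩
                    refine ⟨fun i => (C.hm2 i).1, σ, T.m 0, T.w 2, ?_⟩
                    rw [s0, s1, s2, s3]
                    refine Or.inr (Or.inr (Or.inr (Or.inl ?_)))
                    refine ⟨by linarith, by linarith, by linarith, by linarith, by linarith, by linarith, by linarith, by linarith, by linarith, by linarith, by linarith, by linarith, by linarith, by linarith, by linarith, by linarith, by linarith, by linarith⟩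
                  · have L31 : 2 ≤ b 3 1 := by omega
                    exact (C.too_big ![![0, 0, 1, 0], ![0, 0, 1, 2], ![2, 1, 0, 0], ![0, 2, 0, 0]] (fun s t hst => by fin_cases s <;> fin_cases t <;> first | exact absurd rfl hst | assumption)
                      ![0, 2, 1, 2] (by decide) (by decide) (by decide) (by decide)).elim
                · have L23 : 1 ≤ b 2 3 := by omega
                  have L32 : 1 ≤ b 3 2 := C.pos_symm (by decide) (by omega)
                  exact (C.too_big ![![0, 0, 1, 0], ![0, 0, 1, 2], ![2, 1, 0, 1], ![0, 1, 1, 0]] (fun s t hst => by fin_cases s <;> fin_cases t <;> first | exact absurd rfl hst | assumption)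
                    ![0, 1, 1, 1] (by decide) (by decide) (by decide) (by decide)).elim
              · have L21 : 2 ≤ b 2 1 := by omega
                exact (C.too_big ![![0, 0, 1, 0], ![0, 0, 1, 2], ![2, 2, 0, 0], ![0, 1, 0, 0]] (fun s t hst => by fin_cases s <;> fin_cases t <;> first | exact absurd rfl hst | assumption)
                  ![0, 2, 2, 1] (by decide) (by decide) (by decide) (by decide)).elim
            · have L20 : 3 ≤ b 2 0 := by omega
              exact (C.too_big ![![0, 0, 1, 0], ![0, 0, 1, 2], ![3, 1, 0, 0], ![0, 1, 0, 0]] (fun s t hst => by fin_cases s <;> fin_cases t <;> first | exact absurd rfl hst | assumption)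
                ![1, 1, 2, 0] (by decide) (by decide) (by decide) (by decide)).elim
        · have L13 : 3 ≤ b 1 3 := by omega
          exact (C.too_big ![![0, 0, 1, 0], ![0, 0, 1, 3], ![1, 1, 0, 0], ![0, 1, 0, 0]] (fun s t hst => by fin_cases s <;> fin_cases t <;> first | exact absurd rfl hst | assumption)
            ![0, 2, 1, 1] (by decide) (by decide) (by decide) (by decide)).elim
  · have L12 : 2 ≤ b 1 2 := by omega
    rcases le_or_gt (b 1 2) 2 with hc | hc
    · have U12 : b 1 2 ≤ 2 := hc
      rcases le_or_gt (b 1 3) 0 with hc | hc
      · have U13 : b 1 3 ≤ 0 := hc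
        have U31 : b 3 1 ≤ 0 := C.le_zero_symm (by decide) hc
        rcases le_or_gt (b 2 0) 1 with hc | hc
        · have U20 : b 2 0 ≤ 1 := hc
          rcases le_or_gt (b 2 1) 1 with hc | hc
          · have U21 : b 2 1 ≤ 1 := hc
            rcases le_or_gt (b 2 3) 0 with hc | hc
            · have U23 : b 2 3 ≤ 0 := hc
              have U32 : b 3 2 ≤ 0 := C.le_zero_symm (by decide) hc
              exact (C.too_small ![![0, 0, 1, 0], ![0, 0, 2, 0], ![1, 1, 0, 0], ![0, 0, 0, 0]] (fun s t hst => by fin_cases s <;> fin_cases t <;> first | exact absurd rfl hst | assumption)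
                ![1, 2, 2, 1] (by decide) (by decide) (by decide)).elim
            · have L23 : 1 ≤ b 2 3 := by omega
              have L32 : 1 ≤ b 3 2 := C.pos_symm (by decide) (by omega)
              rcases le_or_gt (b 2 3) 1 with hc | hc
              · have U23 : b 2 3 ≤ 1 := hc
                rcases le_or_gt (b 3 2) 1 with hc | hc
                · have U32 : b 3 2 ≤ 1 := hc
                  have e01 : b 0 1 = 0 := le_antisymm U01 L01
                  have e02 : b 0 2 = 1 := le_antisymm U02 L02
                  have e03 : b 0 3 = 0 := le_antisymm U03 L03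
                  have e10 : b 1 0 = 0 := le_antisymm U10 L10
                  have e12 : b 1 2 = 2 := le_antisymm U12 L12
                  have e13 : b 1 3 = 0 := le_antisymm U13 L13
                  have e20 : b 2 0 = 1 := le_antisymm U20 L20
                  have e21 : b 2 1 = 1 := le_antisymm U21 L21
                  have e23 : b 2 3 = 1 := le_antisymm U23 L23
                  have e30 : b 3 0 = 0 := le_antisymm U30 L30
                  have e31 : b 3 1 = 0 := le_antisymm U31 L31
                  have e32 : b 3 2 = 1 := le_antisymm U32 L32
                  have row0 : 0 * T.m 1 + 1 * T.m 2 + 0 * T.m 3 = 2 * T.m 0 := by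
                    have h := C.row 0
                    simp [Fin.sum_univ_four] at h
                    rw [e01, e02, e03] at h
                    linarith
                  have row1 : 0 * T.m 0 + 2 * T.m 2 + 0 * T.m 3 = 2 * T.m 1 := by
                    have h := C.row 1
                    simp [Fin.sum_univ_four] at h
                    rw [e10, e12, e13] at h
                    linarith
                  have row2 : 1 * T.m 0 + 1 * T.m 1 + 1 * T.m 3 = 2 * T.m 2 := by
                    have h := C.row 2
                    simp [Fin.sum_univ_four] at h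
                    rw [e20, e21, e23] at h
                    linarith
                  have row3 : 0 * T.m 0 + 0 * T.m 1 + 1 * T.m 2 = 2 * T.m 3 := by
                    have h := C.row 3
                    simp [Fin.sum_univ_four] at h
                    rw [e30, e31, e32] at h
                    linarith
                  have hb01 : T.a 0 1 = 0 * T.w 0 := by have h := C.hb 0 1 (by decide); rw [e01] at h; exact h
                  have hb02 : T.a 0 2 = 1 * T.w 0 := by have h := C.hb 0 2 (by decide); rw [e02] at h; exact h
                  have hb03 : T.a 0 3 = 0 * T.w 0 := by have h := C.hb 0 3 (by decide); rw [e03] at h; exact h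
                  have hb10 : T.a 1 0 = 0 * T.w 1 := by have h := C.hb 1 0 (by decide); rw [e10] at h; exact h
                  have hb12 : T.a 1 2 = 2 * T.w 1 := by have h := C.hb 1 2 (by decide); rw [e12] at h; exact h
                  have hb13 : T.a 1 3 = 0 * T.w 1 := by have h := C.hb 1 3 (by decide); rw [e13] at h; exact h
                  have hb20 : T.a 2 0 = 1 * T.w 2 := by have h := C.hb 2 0 (by decide); rw [e20] at h; exact h
                  have hb21 : T.a 2 1 = 1 * T.w 2 := by have h := C.hb 2 1 (by decide); rw [e21] at h; exact h
                  have hb23 : T.a 2 3 = 1 * T.w 2 := by have h := C.hb 2 3 (by decide); rw [e23] at h; exact h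
                  have hb30 : T.a 3 0 = 0 * T.w 3 := by have h := C.hb 3 0 (by decide); rw [e30] at h; exact h
                  have hb31 : T.a 3 1 = 0 * T.w 3 := by have h := C.hb 3 1 (by decide); rw [e31] at h; exact h
                  have hb32 : T.a 3 2 = 1 * T.w 3 := by have h := C.hb 3 2 (by decide); rw [e32] at h; exact h
                  have r01 : 0 * T.w 0 = 0 * T.w 1 := by have h := C.rel (by decide : (0 : Fin 4) ≠ 1); rw [e01, e10] at h; exact h
                  have r02 : 1 * T.w 0 = 1 * T.w 2 := by have h := C.rel (by decide : (0 : Fin 4) ≠ 2); rw [e02, e20] at h; exact h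
                  have r03 : 0 * T.w 0 = 0 * T.w 3 := by have h := C.rel (by decide : (0 : Fin 4) ≠ 3); rw [e03, e30] at h; exact h
                  have r12 : 2 * T.w 1 = 1 * T.w 2 := by have h := C.rel (by decide : (1 : Fin 4) ≠ 2); rw [e12, e21] at h; exact h
                  have r13 : 0 * T.w 1 = 0 * T.w 3 := by have h := C.rel (by decide : (1 : Fin 4) ≠ 3); rw [e13, e31] at h; exact h
                  have r23 : 1 * T.w 2 = 1 * T.w 3 := by have h := C.rel (by decide : (2 : Fin 4) ≠ 3); rw [e23, e32] at h; exact h
                  have d0 := C.diag 0
                  have d1 := C.diag 1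
                  have d2 := C.diag 2
                  have d3 := C.diag 3
                  obtain ⟨σ, s0, s1, s2, s3⟩ : ∃ σ : Equiv.Perm (Fin 4), σ 0 = 2 ∧ σ 1 = 0 ∧ σ 2 = 3 ∧ σ 3 = 1 :=
                    ⟨⟨![2, 0, 3, 1], ![1, 3, 0, 2], by decide, by decide⟩, rfl, rfl, rfl, rfl⟩
                  refine ⟨fun i => (C.hm2 i).1, σ, T.m 0, T.w 1, ?_⟩
                  rw [s0, s1, s2, s3]
                  refine Or.inr (Or.inr (Or.inr (Or.inr (Or.inr (?_)))))
                  refine ⟨by linarith, by linarith, by linarith, by linarith, by linarith, by linarith, by linarith, by linarith, by linarith, by linarith, by linarith, by linarith, by linarith, by linarith, by linarith, by linarith, by linarith, by linarith⟩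
                · have L32 : 2 ≤ b 3 2 := by omega
                  exact (C.too_big ![![0, 0, 1, 0], ![0, 0, 2, 0], ![1, 1, 0, 1], ![0, 0, 2, 0]] (fun s t hst => by fin_cases s <;> fin_cases t <;> first | exact absurd rfl hst | assumption)
                    ![0, 1, 1, 1] (by decide) (by decide) (by decide) (by decide)).elim
              · have L23 : 2 ≤ b 2 3 := by omega
                exact (C.too_big ![![0, 0, 1, 0], ![0, 0, 2, 0], ![1, 1, 0, 2], ![0, 0, 1, 0]] (fun s t hst => by fin_cases s <;> fin_cases t <;> first | exact absurd rfl hst | assumption)
                  ![0, 2, 2, 1] (by decide) (by decide) (by decide) (by decide)).elim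
          · have L21 : 2 ≤ b 2 1 := by omega
            exact (C.too_big ![![0, 0, 1, 0], ![0, 0, 2, 0], ![1, 2, 0, 0], ![0, 0, 0, 0]] (fun s t hst => by fin_cases s <;> fin_cases t <;> first | exact absurd rfl hst | assumption)
              ![0, 1, 1, 0] (by decide) (by decide) (by decide) (by decide)).elim
        · have L20 : 2 ≤ b 2 0 := by omega
          exact (C.too_big ![![0, 0, 1, 0], ![0, 0, 2, 0], ![2, 1, 0, 0], ![0, 0, 0, 0]] (fun s t hst => by fin_cases s <;> fin_cases t <;> first | exact absurd rfl hst | assumption)
            ![1, 2, 2, 0] (by decide) (by decide) (by decide) (by decide)).elim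
      · have L13 : 1 ≤ b 1 3 := by omega
        have L31 : 1 ≤ b 3 1 := C.pos_symm (by decide) (by omega)
        rcases le_or_gt (b 1 3) 1 with hc | hc
        · have U13 : b 1 3 ≤ 1 := hc
          rcases le_or_gt (b 2 0) 1 with hc | hc
          · have U20 : b 2 0 ≤ 1 := hc
            rcases le_or_gt (b 2 1) 1 with hc | hc
            · have U21 : b 2 1 ≤ 1 := hc
              rcases le_or_gt (b 2 3) 0 with hc | hc
              · have U23 : b 2 3 ≤ 0 := hc
                have U32 : b 3 2 ≤ 0 := C.le_zero_symm (by decide) hc
                rcases le_or_gt (b 3 1) 1 with hc | hc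
                · have U31 : b 3 1 ≤ 1 := hc
                  exact (C.too_small ![![0, 0, 1, 0], ![0, 0, 2, 1], ![1, 1, 0, 0], ![0, 1, 0, 0]] (fun s t hst => by fin_cases s <;> fin_cases t <;> first | exact absurd rfl hst | assumption)
                    ![3, 8, 6, 4] (by decide) (by decide) (by decide)).elim
                · have L31 : 2 ≤ b 3 1 := by omega
                  exact (C.too_big ![![0, 0, 1, 0], ![0, 0, 2, 1], ![1, 1, 0, 0], ![0, 2, 0, 0]] (fun s t hst => by fin_cases s <;> fin_cases t <;> first | exact absurd rfl hst | assumption)
                    ![0, 2, 1, 2] (by decide) (by decide) (by decide) (by decide)).elim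
              · have L23 : 1 ≤ b 2 3 := by omega
                have L32 : 1 ≤ b 3 2 := C.pos_symm (by decide) (by omega)
                exact (C.too_big ![![0, 0, 1, 0], ![0, 0, 2, 1], ![1, 1, 0, 1], ![0, 1, 1, 0]] (fun s t hst => by fin_cases s <;> fin_cases t <;> first | exact absurd rfl hst | assumption)
                  ![0, 1, 1, 1] (by decide) (by decide) (by decide) (by decide)).elim
            · have L21 : 2 ≤ b 2 1 := by omega
              exact (C.too_big ![![0, 0, 1, 0], ![0, 0, 2, 1], ![1, 2, 0, 0], ![0, 1, 0, 0]] (fun s t hst => by fin_cases s <;> fin_cases t <;> first | exact absurd rfl hst | assumption)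
                ![0, 2, 2, 1] (by decide) (by decide) (by decide) (by decide)).elim
          · have L20 : 2 ≤ b 2 0 := by omega
            exact (C.too_big ![![0, 0, 1, 0], ![0, 0, 2, 1], ![2, 1, 0, 0], ![0, 1, 0, 0]] (fun s t hst => by fin_cases s <;> fin_cases t <;> first | exact absurd rfl hst | assumption)
              ![1, 2, 2, 0] (by decide) (by decide) (by decide) (by decide)).elim
        · have L13 : 2 ≤ b 1 3 := by omega
          exact (C.too_big ![![0, 0, 1, 0], ![0, 0, 2, 2], ![1, 1, 0, 0], ![0, 1, 0, 0]] (fun s t hst => by fin_cases s <;> fin_cases t <;> first | exact absurd rfl hst | assumption)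
            ![0, 2, 1, 1] (by decide) (by decide) (by decide) (by decide)).elim
    · have L12 : 3 ≤ b 1 2 := by omega
      exact (C.too_big ![![0, 0, 1, 0], ![0, 0, 3, 0], ![1, 1, 0, 0], ![0, 0, 0, 0]] (fun s t hst => by fin_cases s <;> fin_cases t <;> first | exact absurd rfl hst | assumption)
        ![1, 3, 2, 0] (by decide) (by decide) (by decide) (by decide)).elim

end Groth.Agent.Lib.Helper36.G4
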